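import Cfsg.Agent.Lib.Grp.ON.Defs

set_option autoImplicit false
set_option maxRecDepth 100000
set_option Elab.async false
set_option linter.unusedSectionVars false

namespace Cfsg.Agent.CG.ON

theorem c0 : allRange (chkBase 122760 24 (appB tabs t48 0xffffff) 0 (inv 0)) 0 20000 = true := by decide +kernel
theorem c1 : allRange (chkBase 122760 24 (appB tabs t48 0xffffff) 0 (inv 0)) 20000 20000 = true := by decide +kernel
theorem c2 : allRange (chkBase 122760 24 (appB tabs t48 0xffffff) 0 (inv 0)) 40000 20000 = true := by decide +kernel
theorem c3 : allRange (chkBase 122760 24 (appB tabs t48 0xffffff) 0 (inv 0)) 60000 20000 = true := by decide +kernel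
theorem c4 : allRange (chkBase 122760 24 (appB tabs t48 0xffffff) 0 (inv 0)) 80000 20000 = true := by decide +kernel
theorem c5 : allRange (chkBase 122760 24 (appB tabs t48 0xffffff) 0 (inv 0)) 100000 20000 = true := by decide +kernel
theorem c6 : allRange (chkBase 122760 24 (appB tabs t48 0xffffff) 0 (inv 0)) 120000 2760 = true := by decide +kernel
theorem c7 : allRange (chkBase 122760 24 (appB tabs t48 0xffffff) 1 (inv 1)) 0 20000 = true := by decide +kernel
theorem c8 : allRange (chkBase 122760 24 (appB tabs t48 0xffffff) 1 (inv 1)) 20000 20000 = true := by decide +kernel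
theorem c9 : allRange (chkBase 122760 24 (appB tabs t48 0xffffff) 1 (inv 1)) 40000 20000 = true := by decide +kernel
theorem c10 : allRange (chkBase 122760 24 (appB tabs t48 0xffffff) 1 (inv 1)) 60000 20000 = true := by decide +kernel
theorem c11 : allRange (chkBase 122760 24 (appB tabs t48 0xffffff) 1 (inv 1)) 80000 20000 = true := by decide +kernel
theorem c12 : allRange (chkBase 122760 24 (appB tabs t48 0xffffff) 1 (inv 1)) 100000 20000 = true := by decide +kernel
theorem c13 : allRange (chkBase 122760 24 (appB tabs t48 0xffffff) 1 (inv 1)) 120000 2760 = true := by decide +kernel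
theorem c14 : allRange (chkBase 122760 24 (appB tabs t48 0xffffff) 2 (inv 2)) 0 20000 = true := by decide +kernel
theorem c15 : allRange (chkBase 122760 24 (appB tabs t48 0xffffff) 2 (inv 2)) 20000 20000 = true := by decide +kernel
theorem c16 : allRange (chkBase 122760 24 (appB tabs t48 0xffffff) 2 (inv 2)) 40000 20000 = true := by decide +kernel
theorem c17 : allRange (chkBase 122760 24 (appB tabs t48 0xffffff) 2 (inv 2)) 60000 20000 = true := by decide +kernel
theorem c18 : allRange (chkBase 122760 24 (appB tabs t48 0xffffff) 2 (inv 2)) 80000 20000 = true := by decide +kernel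
theorem c19 : allRange (chkBase 122760 24 (appB tabs t48 0xffffff) 2 (inv 2)) 100000 20000 = true := by decide +kernel
theorem c20 : allRange (chkBase 122760 24 (appB tabs t48 0xffffff) 2 (inv 2)) 120000 2760 = true := by decide +kernel
theorem c21 : allRange (chkBase 122760 24 (appB tabs t48 0xffffff) 3 (inv 3)) 0 20000 = true := by decide +kernel
theorem c22 : allRange (chkBase 122760 24 (appB tabs t48 0xffffff) 3 (inv 3)) 20000 20000 = true := by decide +kernel
theorem c23 : allRange (chkBase 122760 24 (appB tabs t48 0xffffff) 3 (inv 3)) 40000 20000 = true := by decide +kernel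
theorem c24 : allRange (chkBase 122760 24 (appB tabs t48 0xffffff) 3 (inv 3)) 60000 20000 = true := by decide +kernel
theorem c25 : allRange (chkBase 122760 24 (appB tabs t48 0xffffff) 3 (inv 3)) 80000 20000 = true := by decide +kernel
theorem c26 : allRange (chkBase 122760 24 (appB tabs t48 0xffffff) 3 (inv 3)) 100000 20000 = true := by decide +kernel
theorem c27 : allRange (chkBase 122760 24 (appB tabs t48 0xffffff) 3 (inv 3)) 120000 2760 = true := by decide +kernel
theorem c28 : allRange (chkBase 122760 24 (appB tabs t48 0xffffff) 4 (inv 4)) 0 20000 = true := by decide +kernel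
theorem c29 : allRange (chkBase 122760 24 (appB tabs t48 0xffffff) 4 (inv 4)) 20000 20000 = true := by decide +kernel
theorem c30 : allRange (chkBase 122760 24 (appB tabs t48 0xffffff) 4 (inv 4)) 40000 20000 = true := by decide +kernel
theorem c31 : allRange (chkBase 122760 24 (appB tabs t48 0xffffff) 4 (inv 4)) 60000 20000 = true := by decide +kernel
theorem c32 : allRange (chkBase 122760 24 (appB tabs t48 0xffffff) 4 (inv 4)) 80000 20000 = true := by decide +kernel
theorem c33 : allRange (chkBase 122760 24 (appB tabs t48 0xffffff) 4 (inv 4)) 100000 20000 = true := by decide +kernel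
theorem c34 : allRange (chkBase 122760 24 (appB tabs t48 0xffffff) 4 (inv 4)) 120000 2760 = true := by decide +kernel
theorem c35 : allRange (chkBase 122760 24 (appB tabs t48 0xffffff) 5 (inv 5)) 0 20000 = true := by decide +kernel
theorem c36 : allRange (chkBase 122760 24 (appB tabs t48 0xffffff) 5 (inv 5)) 20000 20000 = true := by decide +kernel
theorem c37 : allRange (chkBase 122760 24 (appB tabs t48 0xffffff) 5 (inv 5)) 40000 20000 = true := by decide +kernel
theorem c38 : allRange (chkBase 122760 24 (appB tabs t48 0xffffff) 5 (inv 5)) 60000 20000 = true := by decide +kernel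
theorem c39 : allRange (chkBase 122760 24 (appB tabs t48 0xffffff) 5 (inv 5)) 80000 20000 = true := by decide +kernel
theorem c40 : allRange (chkBase 122760 24 (appB tabs t48 0xffffff) 5 (inv 5)) 100000 20000 = true := by decide +kernel
theorem c41 : allRange (chkBase 122760 24 (appB tabs t48 0xffffff) 5 (inv 5)) 120000 2760 = true := by decide +kernel
theorem c42 : allRange (chkBase 122760 24 (appB tabs t48 0xffffff) 6 (inv 6)) 0 20000 = true := by decide +kernel
theorem c43 : allRange (chkBase 122760 24 (appB tabs t48 0xffffff) 6 (inv 6)) 20000 20000 = true := by decide +kernel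
theorem c44 : allRange (chkBase 122760 24 (appB tabs t48 0xffffff) 6 (inv 6)) 40000 20000 = true := by decide +kernel
theorem c45 : allRange (chkBase 122760 24 (appB tabs t48 0xffffff) 6 (inv 6)) 60000 20000 = true := by decide +kernel
theorem c46 : allRange (chkBase 122760 24 (appB tabs t48 0xffffff) 6 (inv 6)) 80000 20000 = true := by decide +kernel
theorem c47 : allRange (chkBase 122760 24 (appB tabs t48 0xffffff) 6 (inv 6)) 100000 20000 = true := by decide +kernel
theorem c48 : allRange (chkBase 122760 24 (appB tabs t48 0xffffff) 6 (inv 6)) 120000 2760 = true := by decide +kernel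
theorem c49 : allRange (chkBase 122760 24 (appB tabs t48 0xffffff) 7 (inv 7)) 0 20000 = true := by decide +kernel
theorem c50 : allRange (chkBase 122760 24 (appB tabs t48 0xffffff) 7 (inv 7)) 20000 20000 = true := by decide +kernel
theorem c51 : allRange (chkBase 122760 24 (appB tabs t48 0xffffff) 7 (inv 7)) 40000 20000 = true := by decide +kernel
theorem c52 : allRange (chkBase 122760 24 (appB tabs t48 0xffffff) 7 (inv 7)) 60000 20000 = true := by decide +kernel
theorem c53 : allRange (chkBase 122760 24 (appB tabs t48 0xffffff) 7 (inv 7)) 80000 20000 = true := by decide +kernel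
theorem c54 : allRange (chkBase 122760 24 (appB tabs t48 0xffffff) 7 (inv 7)) 100000 20000 = true := by decide +kernel
theorem c55 : allRange (chkBase 122760 24 (appB tabs t48 0xffffff) 7 (inv 7)) 120000 2760 = true := by decide +kernel
theorem c56 : chkDef 24 (appB tabs t48 0xffffff) 8 (slp 8) 0 20000 = true := by decide +kernel
theorem c57 : chkDef 24 (appB tabs t48 0xffffff) 8 (slp 8) 20000 20000 = true := by decide +kernel
theorem c58 : chkDef 24 (appB tabs t48 0xffffff) 8 (slp 8) 40000 20000 = true := by decide +kernel
theorem c59 : chkDef 24 (appB tabs t48 0xffffff) 8 (slp 8) 60000 20000 = true := by decide +kernel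
theorem c60 : chkDef 24 (appB tabs t48 0xffffff) 8 (slp 8) 80000 20000 = true := by decide +kernel
theorem c61 : chkDef 24 (appB tabs t48 0xffffff) 8 (slp 8) 100000 20000 = true := by decide +kernel
theorem c62 : chkDef 24 (appB tabs t48 0xffffff) 8 (slp 8) 120000 2760 = true := by decide +kernel
theorem c63 : chkDef 24 (appB tabs t48 0xffffff) 9 (slp 9) 0 20000 = true := by decide +kernel
theorem c64 : chkDef 24 (appB tabs t48 0xffffff) 9 (slp 9) 20000 20000 = true := by decide +kernel
theorem c65 : chkDef 24 (appB tabs t48 0xffffff) 9 (slp 9) 40000 20000 = true := by decide +kernel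
theorem c66 : chkDef 24 (appB tabs t48 0xffffff) 9 (slp 9) 60000 20000 = true := by decide +kernel
theorem c67 : chkDef 24 (appB tabs t48 0xffffff) 9 (slp 9) 80000 20000 = true := by decide +kernel
theorem c68 : chkDef 24 (appB tabs t48 0xffffff) 9 (slp 9) 100000 20000 = true := by decide +kernel
theorem c69 : chkDef 24 (appB tabs t48 0xffffff) 9 (slp 9) 120000 2760 = true := by decide +kernel
theorem c70 : chkDef 24 (appB tabs t48 0xffffff) 10 (slp 10) 0 20000 = true := by decide +kernel
theorem c71 : chkDef 24 (appB tabs t48 0xffffff) 10 (slp 10) 20000 20000 = true := by decide +kernel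
theorem c72 : chkDef 24 (appB tabs t48 0xffffff) 10 (slp 10) 40000 20000 = true := by decide +kernel
theorem c73 : chkDef 24 (appB tabs t48 0xffffff) 10 (slp 10) 60000 20000 = true := by decide +kernel
theorem c74 : chkDef 24 (appB tabs t48 0xffffff) 10 (slp 10) 80000 20000 = true := by decide +kernel
theorem c75 : chkDef 24 (appB tabs t48 0xffffff) 10 (slp 10) 100000 20000 = true := by decide +kernel
theorem c76 : chkDef 24 (appB tabs t48 0xffffff) 10 (slp 10) 120000 2760 = true := by decide +kernel
theorem c77 : chkDef 24 (appB tabs t48 0xffffff) 11 (slp 11) 0 20000 = true := by decide +kernel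
theorem c78 : chkDef 24 (appB tabs t48 0xffffff) 11 (slp 11) 20000 20000 = true := by decide +kernel
theorem c79 : chkDef 24 (appB tabs t48 0xffffff) 11 (slp 11) 40000 20000 = true := by decide +kernel
theorem c80 : chkDef 24 (appB tabs t48 0xffffff) 11 (slp 11) 60000 20000 = true := by decide +kernel
theorem c81 : chkDef 24 (appB tabs t48 0xffffff) 11 (slp 11) 80000 20000 = true := by decide +kernel
theorem c82 : chkDef 24 (appB tabs t48 0xffffff) 11 (slp 11) 100000 20000 = true := by decide +kernel
theorem c83 : chkDef 24 (appB tabs t48 0xffffff) 11 (slp 11) 120000 2760 = true := by decide +kernel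
theorem c84 : chkDef 24 (appB tabs t48 0xffffff) 12 (slp 12) 0 20000 = true := by decide +kernel
theorem c85 : chkDef 24 (appB tabs t48 0xffffff) 12 (slp 12) 20000 20000 = true := by decide +kernel
theorem c86 : chkDef 24 (appB tabs t48 0xffffff) 12 (slp 12) 40000 20000 = true := by decide +kernel
theorem c87 : chkDef 24 (appB tabs t48 0xffffff) 12 (slp 12) 60000 20000 = true := by decide +kernel
theorem c88 : chkDef 24 (appB tabs t48 0xffffff) 12 (slp 12) 80000 20000 = true := by decide +kernel
theorem c89 : chkDef 24 (appB tabs t48 0xffffff) 12 (slp 12) 100000 20000 = true := by decide +kernel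
theorem c90 : chkDef 24 (appB tabs t48 0xffffff) 12 (slp 12) 120000 2760 = true := by decide +kernel
theorem c91 : chkDef 24 (appB tabs t48 0xffffff) 13 (slp 13) 0 20000 = true := by decide +kernel
theorem c92 : chkDef 24 (appB tabs t48 0xffffff) 13 (slp 13) 20000 20000 = true := by decide +kernel
theorem c93 : chkDef 24 (appB tabs t48 0xffffff) 13 (slp 13) 40000 20000 = true := by decide +kernel
theorem c94 : chkDef 24 (appB tabs t48 0xffffff) 13 (slp 13) 60000 20000 = true := by decide +kernel
theorem c95 : chkDef 24 (appB tabs t48 0xffffff) 13 (slp 13) 80000 20000 = true := by decide +kernel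
theorem c96 : chkDef 24 (appB tabs t48 0xffffff) 13 (slp 13) 100000 20000 = true := by decide +kernel
theorem c97 : chkDef 24 (appB tabs t48 0xffffff) 13 (slp 13) 120000 2760 = true := by decide +kernel
theorem c98 : chkDef 24 (appB tabs t48 0xffffff) 14 (slp 14) 0 20000 = true := by decide +kernel
theorem c99 : chkDef 24 (appB tabs t48 0xffffff) 14 (slp 14) 20000 20000 = true := by decide +kernel
theorem c100 : chkDef 24 (appB tabs t48 0xffffff) 14 (slp 14) 40000 20000 = true := by decide +kernel
theorem c101 : chkDef 24 (appB tabs t48 0xffffff) 14 (slp 14) 60000 20000 = true := by decide +kernel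
theorem c102 : chkDef 24 (appB tabs t48 0xffffff) 14 (slp 14) 80000 20000 = true := by decide +kernel
theorem c103 : chkDef 24 (appB tabs t48 0xffffff) 14 (slp 14) 100000 20000 = true := by decide +kernel
theorem c104 : chkDef 24 (appB tabs t48 0xffffff) 14 (slp 14) 120000 2760 = true := by decide +kernel
theorem c105 : chkDef 24 (appB tabs t48 0xffffff) 15 (slp 15) 0 20000 = true := by decide +kernel
theorem c106 : chkDef 24 (appB tabs t48 0xffffff) 15 (slp 15) 20000 20000 = true := by decide +kernel
theorem c107 : chkDef 24 (appB tabs t48 0xffffff) 15 (slp 15) 40000 20000 = true := by decide +kernel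
theorem c108 : chkDef 24 (appB tabs t48 0xffffff) 15 (slp 15) 60000 20000 = true := by decide +kernel
theorem c109 : chkDef 24 (appB tabs t48 0xffffff) 15 (slp 15) 80000 20000 = true := by decide +kernel
theorem c110 : chkDef 24 (appB tabs t48 0xffffff) 15 (slp 15) 100000 20000 = true := by decide +kernel
theorem c111 : chkDef 24 (appB tabs t48 0xffffff) 15 (slp 15) 120000 2760 = true := by decide +kernel
theorem c112 : chkDef 24 (appB tabs t48 0xffffff) 16 (slp 16) 0 20000 = true := by decide +kernel
theorem c113 : chkDef 24 (appB tabs t48 0xffffff) 16 (slp 16) 20000 20000 = true := by decide +kernel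
theorem c114 : chkDef 24 (appB tabs t48 0xffffff) 16 (slp 16) 40000 20000 = true := by decide +kernel
theorem c115 : chkDef 24 (appB tabs t48 0xffffff) 16 (slp 16) 60000 20000 = true := by decide +kernel
theorem c116 : chkDef 24 (appB tabs t48 0xffffff) 16 (slp 16) 80000 20000 = true := by decide +kernel
theorem c117 : chkDef 24 (appB tabs t48 0xffffff) 16 (slp 16) 100000 20000 = true := by decide +kernel
theorem c118 : chkDef 24 (appB tabs t48 0xffffff) 16 (slp 16) 120000 2760 = true := by decide +kernel

end Cfsg.Agent.CG.ON
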