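import Cfsg.Agent.Lib.Grp.ON.Defs

set_option autoImplicit false
set_option maxRecDepth 100000
set_option Elab.async false
set_option linter.unusedSectionVars false

namespace Cfsg.Agent.CG.ON

theorem c119 : chkDef 24 (appB tabs t48 0xffffff) 17 (slp 17) 0 20000 = true := by decide +kernel
theorem c120 : chkDef 24 (appB tabs t48 0xffffff) 17 (slp 17) 20000 20000 = true := by decide +kernel
theorem c121 : chkDef 24 (appB tabs t48 0xffffff) 17 (slp 17) 40000 20000 = true := by decide +kernel
theorem c122 : chkDef 24 (appB tabs t48 0xffffff) 17 (slp 17) 60000 20000 = true := by decide +kernel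
theorem c123 : chkDef 24 (appB tabs t48 0xffffff) 17 (slp 17) 80000 20000 = true := by decide +kernel
theorem c124 : chkDef 24 (appB tabs t48 0xffffff) 17 (slp 17) 100000 20000 = true := by decide +kernel
theorem c125 : chkDef 24 (appB tabs t48 0xffffff) 17 (slp 17) 120000 2760 = true := by decide +kernel
theorem c126 : chkDef 24 (appB tabs t48 0xffffff) 18 (slp 18) 0 20000 = true := by decide +kernel
theorem c127 : chkDef 24 (appB tabs t48 0xffffff) 18 (slp 18) 20000 20000 = true := by decide +kernel
theorem c128 : chkDef 24 (appB tabs t48 0xffffff) 18 (slp 18) 40000 20000 = true := by decide +kernel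
theorem c129 : chkDef 24 (appB tabs t48 0xffffff) 18 (slp 18) 60000 20000 = true := by decide +kernel
theorem c130 : chkDef 24 (appB tabs t48 0xffffff) 18 (slp 18) 80000 20000 = true := by decide +kernel
theorem c131 : chkDef 24 (appB tabs t48 0xffffff) 18 (slp 18) 100000 20000 = true := by decide +kernel
theorem c132 : chkDef 24 (appB tabs t48 0xffffff) 18 (slp 18) 120000 2760 = true := by decide +kernel
theorem c133 : chkDef 24 (appB tabs t48 0xffffff) 19 (slp 19) 0 20000 = true := by decide +kernel
theorem c134 : chkDef 24 (appB tabs t48 0xffffff) 19 (slp 19) 20000 20000 = true := by decide +kernel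
theorem c135 : chkDef 24 (appB tabs t48 0xffffff) 19 (slp 19) 40000 20000 = true := by decide +kernel
theorem c136 : chkDef 24 (appB tabs t48 0xffffff) 19 (slp 19) 60000 20000 = true := by decide +kernel
theorem c137 : chkDef 24 (appB tabs t48 0xffffff) 19 (slp 19) 80000 20000 = true := by decide +kernel
theorem c138 : chkDef 24 (appB tabs t48 0xffffff) 19 (slp 19) 100000 20000 = true := by decide +kernel
theorem c139 : chkDef 24 (appB tabs t48 0xffffff) 19 (slp 19) 120000 2760 = true := by decide +kernel
theorem c140 : chkDef 24 (appB tabs t48 0xffffff) 20 (slp 20) 0 20000 = true := by decide +kernel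
theorem c141 : chkDef 24 (appB tabs t48 0xffffff) 20 (slp 20) 20000 20000 = true := by decide +kernel
theorem c142 : chkDef 24 (appB tabs t48 0xffffff) 20 (slp 20) 40000 20000 = true := by decide +kernel
theorem c143 : chkDef 24 (appB tabs t48 0xffffff) 20 (slp 20) 60000 20000 = true := by decide +kernel
theorem c144 : chkDef 24 (appB tabs t48 0xffffff) 20 (slp 20) 80000 20000 = true := by decide +kernel
theorem c145 : chkDef 24 (appB tabs t48 0xffffff) 20 (slp 20) 100000 20000 = true := by decide +kernel
theorem c146 : chkDef 24 (appB tabs t48 0xffffff) 20 (slp 20) 120000 2760 = true := by decide +kernel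
theorem c147 : chkDef 24 (appB tabs t48 0xffffff) 21 (slp 21) 0 20000 = true := by decide +kernel
theorem c148 : chkDef 24 (appB tabs t48 0xffffff) 21 (slp 21) 20000 20000 = true := by decide +kernel
theorem c149 : chkDef 24 (appB tabs t48 0xffffff) 21 (slp 21) 40000 20000 = true := by decide +kernel
theorem c150 : chkDef 24 (appB tabs t48 0xffffff) 21 (slp 21) 60000 20000 = true := by decide +kernel
theorem c151 : chkDef 24 (appB tabs t48 0xffffff) 21 (slp 21) 80000 20000 = true := by decide +kernel
theorem c152 : chkDef 24 (appB tabs t48 0xffffff) 21 (slp 21) 100000 20000 = true := by decide +kernel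
theorem c153 : chkDef 24 (appB tabs t48 0xffffff) 21 (slp 21) 120000 2760 = true := by decide +kernel
theorem c154 : chkDef 24 (appB tabs t48 0xffffff) 22 (slp 22) 0 20000 = true := by decide +kernel
theorem c155 : chkDef 24 (appB tabs t48 0xffffff) 22 (slp 22) 20000 20000 = true := by decide +kernel
theorem c156 : chkDef 24 (appB tabs t48 0xffffff) 22 (slp 22) 40000 20000 = true := by decide +kernel
theorem c157 : chkDef 24 (appB tabs t48 0xffffff) 22 (slp 22) 60000 20000 = true := by decide +kernel
theorem c158 : chkDef 24 (appB tabs t48 0xffffff) 22 (slp 22) 80000 20000 = true := by decide +kernel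
theorem c159 : chkDef 24 (appB tabs t48 0xffffff) 22 (slp 22) 100000 20000 = true := by decide +kernel
theorem c160 : chkDef 24 (appB tabs t48 0xffffff) 22 (slp 22) 120000 2760 = true := by decide +kernel
theorem c161 : chkDef 24 (appB tabs t48 0xffffff) 23 (slp 23) 0 20000 = true := by decide +kernel
theorem c162 : chkDef 24 (appB tabs t48 0xffffff) 23 (slp 23) 20000 20000 = true := by decide +kernel
theorem c163 : chkDef 24 (appB tabs t48 0xffffff) 23 (slp 23) 40000 20000 = true := by decide +kernel
theorem c164 : chkDef 24 (appB tabs t48 0xffffff) 23 (slp 23) 60000 20000 = true := by decide +kernel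
theorem c165 : chkDef 24 (appB tabs t48 0xffffff) 23 (slp 23) 80000 20000 = true := by decide +kernel
theorem c166 : chkDef 24 (appB tabs t48 0xffffff) 23 (slp 23) 100000 20000 = true := by decide +kernel
theorem c167 : chkDef 24 (appB tabs t48 0xffffff) 23 (slp 23) 120000 2760 = true := by decide +kernel
theorem c168 : chkDef 24 (appB tabs t48 0xffffff) 24 (slp 24) 0 20000 = true := by decide +kernel
theorem c169 : chkDef 24 (appB tabs t48 0xffffff) 24 (slp 24) 20000 20000 = true := by decide +kernel
theorem c170 : chkDef 24 (appB tabs t48 0xffffff) 24 (slp 24) 40000 20000 = true := by decide +kernel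
theorem c171 : chkDef 24 (appB tabs t48 0xffffff) 24 (slp 24) 60000 20000 = true := by decide +kernel
theorem c172 : chkDef 24 (appB tabs t48 0xffffff) 24 (slp 24) 80000 20000 = true := by decide +kernel
theorem c173 : chkDef 24 (appB tabs t48 0xffffff) 24 (slp 24) 100000 20000 = true := by decide +kernel
theorem c174 : chkDef 24 (appB tabs t48 0xffffff) 24 (slp 24) 120000 2760 = true := by decide +kernel
theorem c175 : chkDef 24 (appB tabs t48 0xffffff) 25 (slp 25) 0 20000 = true := by decide +kernel
theorem c176 : chkDef 24 (appB tabs t48 0xffffff) 25 (slp 25) 20000 20000 = true := by decide +kernel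
theorem c177 : chkDef 24 (appB tabs t48 0xffffff) 25 (slp 25) 40000 20000 = true := by decide +kernel
theorem c178 : chkDef 24 (appB tabs t48 0xffffff) 25 (slp 25) 60000 20000 = true := by decide +kernel
theorem c179 : chkDef 24 (appB tabs t48 0xffffff) 25 (slp 25) 80000 20000 = true := by decide +kernel
theorem c180 : chkDef 24 (appB tabs t48 0xffffff) 25 (slp 25) 100000 20000 = true := by decide +kernel
theorem c181 : chkDef 24 (appB tabs t48 0xffffff) 25 (slp 25) 120000 2760 = true := by decide +kernel
theorem c182 : chkDef 24 (appB tabs t48 0xffffff) 26 (slp 26) 0 20000 = true := by decide +kernel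
theorem c183 : chkDef 24 (appB tabs t48 0xffffff) 26 (slp 26) 20000 20000 = true := by decide +kernel
theorem c184 : chkDef 24 (appB tabs t48 0xffffff) 26 (slp 26) 40000 20000 = true := by decide +kernel
theorem c185 : chkDef 24 (appB tabs t48 0xffffff) 26 (slp 26) 60000 20000 = true := by decide +kernel
theorem c186 : chkDef 24 (appB tabs t48 0xffffff) 26 (slp 26) 80000 20000 = true := by decide +kernel
theorem c187 : chkDef 24 (appB tabs t48 0xffffff) 26 (slp 26) 100000 20000 = true := by decide +kernel
theorem c188 : chkDef 24 (appB tabs t48 0xffffff) 26 (slp 26) 120000 2760 = true := by decide +kernel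
theorem c189 : chkDef 24 (appB tabs t48 0xffffff) 27 (slp 27) 0 20000 = true := by decide +kernel
theorem c190 : chkDef 24 (appB tabs t48 0xffffff) 27 (slp 27) 20000 20000 = true := by decide +kernel
theorem c191 : chkDef 24 (appB tabs t48 0xffffff) 27 (slp 27) 40000 20000 = true := by decide +kernel
theorem c192 : chkDef 24 (appB tabs t48 0xffffff) 27 (slp 27) 60000 20000 = true := by decide +kernel
theorem c193 : chkDef 24 (appB tabs t48 0xffffff) 27 (slp 27) 80000 20000 = true := by decide +kernel
theorem c194 : chkDef 24 (appB tabs t48 0xffffff) 27 (slp 27) 100000 20000 = true := by decide +kernel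
theorem c195 : chkDef 24 (appB tabs t48 0xffffff) 27 (slp 27) 120000 2760 = true := by decide +kernel
theorem c196 : chkDef 24 (appB tabs t48 0xffffff) 28 (slp 28) 0 20000 = true := by decide +kernel
theorem c197 : chkDef 24 (appB tabs t48 0xffffff) 28 (slp 28) 20000 20000 = true := by decide +kernel
theorem c198 : chkDef 24 (appB tabs t48 0xffffff) 28 (slp 28) 40000 20000 = true := by decide +kernel
theorem c199 : chkDef 24 (appB tabs t48 0xffffff) 28 (slp 28) 60000 20000 = true := by decide +kernel
theorem c200 : chkDef 24 (appB tabs t48 0xffffff) 28 (slp 28) 80000 20000 = true := by decide +kernel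
theorem c201 : chkDef 24 (appB tabs t48 0xffffff) 28 (slp 28) 100000 20000 = true := by decide +kernel
theorem c202 : chkDef 24 (appB tabs t48 0xffffff) 28 (slp 28) 120000 2760 = true := by decide +kernel
theorem c203 : chkDef 24 (appB tabs t48 0xffffff) 29 (slp 29) 0 20000 = true := by decide +kernel
theorem c204 : chkDef 24 (appB tabs t48 0xffffff) 29 (slp 29) 20000 20000 = true := by decide +kernel
theorem c205 : chkDef 24 (appB tabs t48 0xffffff) 29 (slp 29) 40000 20000 = true := by decide +kernel
theorem c206 : chkDef 24 (appB tabs t48 0xffffff) 29 (slp 29) 60000 20000 = true := by decide +kernel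
theorem c207 : chkDef 24 (appB tabs t48 0xffffff) 29 (slp 29) 80000 20000 = true := by decide +kernel
theorem c208 : chkDef 24 (appB tabs t48 0xffffff) 29 (slp 29) 100000 20000 = true := by decide +kernel
theorem c209 : chkDef 24 (appB tabs t48 0xffffff) 29 (slp 29) 120000 2760 = true := by decide +kernel
theorem c210 : chkDef 24 (appB tabs t48 0xffffff) 30 (slp 30) 0 20000 = true := by decide +kernel
theorem c211 : chkDef 24 (appB tabs t48 0xffffff) 30 (slp 30) 20000 20000 = true := by decide +kernel
theorem c212 : chkDef 24 (appB tabs t48 0xffffff) 30 (slp 30) 40000 20000 = true := by decide +kernel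

end Cfsg.Agent.CG.ON
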