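import Cfsg.Agent.Lib.Grp.ON.Defs

set_option autoImplicit false
set_option maxRecDepth 100000
set_option Elab.async false
set_option linter.unusedSectionVars false

namespace Cfsg.Agent.CG.ON

theorem c213 : chkDef 24 (appB tabs t48 0xffffff) 30 (slp 30) 60000 20000 = true := by decide +kernel
theorem c214 : chkDef 24 (appB tabs t48 0xffffff) 30 (slp 30) 80000 20000 = true := by decide +kernel
theorem c215 : chkDef 24 (appB tabs t48 0xffffff) 30 (slp 30) 100000 20000 = true := by decide +kernel
theorem c216 : chkDef 24 (appB tabs t48 0xffffff) 30 (slp 30) 120000 2760 = true := by decide +kernel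
theorem c217 : chkDef 24 (appB tabs t48 0xffffff) 31 (slp 31) 0 20000 = true := by decide +kernel
theorem c218 : chkDef 24 (appB tabs t48 0xffffff) 31 (slp 31) 20000 20000 = true := by decide +kernel
theorem c219 : chkDef 24 (appB tabs t48 0xffffff) 31 (slp 31) 40000 20000 = true := by decide +kernel
theorem c220 : chkDef 24 (appB tabs t48 0xffffff) 31 (slp 31) 60000 20000 = true := by decide +kernel
theorem c221 : chkDef 24 (appB tabs t48 0xffffff) 31 (slp 31) 80000 20000 = true := by decide +kernel
theorem c222 : chkDef 24 (appB tabs t48 0xffffff) 31 (slp 31) 100000 20000 = true := by decide +kernel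
theorem c223 : chkDef 24 (appB tabs t48 0xffffff) 31 (slp 31) 120000 2760 = true := by decide +kernel
theorem c224 : chkDef 24 (appB tabs t48 0xffffff) 32 (slp 32) 0 20000 = true := by decide +kernel
theorem c225 : chkDef 24 (appB tabs t48 0xffffff) 32 (slp 32) 20000 20000 = true := by decide +kernel
theorem c226 : chkDef 24 (appB tabs t48 0xffffff) 32 (slp 32) 40000 20000 = true := by decide +kernel
theorem c227 : chkDef 24 (appB tabs t48 0xffffff) 32 (slp 32) 60000 20000 = true := by decide +kernel
theorem c228 : chkDef 24 (appB tabs t48 0xffffff) 32 (slp 32) 80000 20000 = true := by decide +kernel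
theorem c229 : chkDef 24 (appB tabs t48 0xffffff) 32 (slp 32) 100000 20000 = true := by decide +kernel
theorem c230 : chkDef 24 (appB tabs t48 0xffffff) 32 (slp 32) 120000 2760 = true := by decide +kernel
theorem c231 : chkDef 24 (appB tabs t48 0xffffff) 33 (slp 33) 0 20000 = true := by decide +kernel
theorem c232 : chkDef 24 (appB tabs t48 0xffffff) 33 (slp 33) 20000 20000 = true := by decide +kernel
theorem c233 : chkDef 24 (appB tabs t48 0xffffff) 33 (slp 33) 40000 20000 = true := by decide +kernel
theorem c234 : chkDef 24 (appB tabs t48 0xffffff) 33 (slp 33) 60000 20000 = true := by decide +kernel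
theorem c235 : chkDef 24 (appB tabs t48 0xffffff) 33 (slp 33) 80000 20000 = true := by decide +kernel
theorem c236 : chkDef 24 (appB tabs t48 0xffffff) 33 (slp 33) 100000 20000 = true := by decide +kernel
theorem c237 : chkDef 24 (appB tabs t48 0xffffff) 33 (slp 33) 120000 2760 = true := by decide +kernel
theorem c238 : chkDef 24 (appB tabs t48 0xffffff) 34 (slp 34) 0 20000 = true := by decide +kernel
theorem c239 : chkDef 24 (appB tabs t48 0xffffff) 34 (slp 34) 20000 20000 = true := by decide +kernel
theorem c240 : chkDef 24 (appB tabs t48 0xffffff) 34 (slp 34) 40000 20000 = true := by decide +kernel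
theorem c241 : chkDef 24 (appB tabs t48 0xffffff) 34 (slp 34) 60000 20000 = true := by decide +kernel
theorem c242 : chkDef 24 (appB tabs t48 0xffffff) 34 (slp 34) 80000 20000 = true := by decide +kernel
theorem c243 : chkDef 24 (appB tabs t48 0xffffff) 34 (slp 34) 100000 20000 = true := by decide +kernel
theorem c244 : chkDef 24 (appB tabs t48 0xffffff) 34 (slp 34) 120000 2760 = true := by decide +kernel
theorem c245 : chkDef 24 (appB tabs t48 0xffffff) 35 (slp 35) 0 20000 = true := by decide +kernel
theorem c246 : chkDef 24 (appB tabs t48 0xffffff) 35 (slp 35) 20000 20000 = true := by decide +kernel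
theorem c247 : chkDef 24 (appB tabs t48 0xffffff) 35 (slp 35) 40000 20000 = true := by decide +kernel
theorem c248 : chkDef 24 (appB tabs t48 0xffffff) 35 (slp 35) 60000 20000 = true := by decide +kernel
theorem c249 : chkDef 24 (appB tabs t48 0xffffff) 35 (slp 35) 80000 20000 = true := by decide +kernel
theorem c250 : chkDef 24 (appB tabs t48 0xffffff) 35 (slp 35) 100000 20000 = true := by decide +kernel
theorem c251 : chkDef 24 (appB tabs t48 0xffffff) 35 (slp 35) 120000 2760 = true := by decide +kernel
theorem c252 : chkDef 24 (appB tabs t48 0xffffff) 36 (slp 36) 0 20000 = true := by decide +kernel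
theorem c253 : chkDef 24 (appB tabs t48 0xffffff) 36 (slp 36) 20000 20000 = true := by decide +kernel
theorem c254 : chkDef 24 (appB tabs t48 0xffffff) 36 (slp 36) 40000 20000 = true := by decide +kernel
theorem c255 : chkDef 24 (appB tabs t48 0xffffff) 36 (slp 36) 60000 20000 = true := by decide +kernel
theorem c256 : chkDef 24 (appB tabs t48 0xffffff) 36 (slp 36) 80000 20000 = true := by decide +kernel
theorem c257 : chkDef 24 (appB tabs t48 0xffffff) 36 (slp 36) 100000 20000 = true := by decide +kernel
theorem c258 : chkDef 24 (appB tabs t48 0xffffff) 36 (slp 36) 120000 2760 = true := by decide +kernel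
theorem c259 : chkDef 24 (appB tabs t48 0xffffff) 37 (slp 37) 0 20000 = true := by decide +kernel
theorem c260 : chkDef 24 (appB tabs t48 0xffffff) 37 (slp 37) 20000 20000 = true := by decide +kernel
theorem c261 : chkDef 24 (appB tabs t48 0xffffff) 37 (slp 37) 40000 20000 = true := by decide +kernel
theorem c262 : chkDef 24 (appB tabs t48 0xffffff) 37 (slp 37) 60000 20000 = true := by decide +kernel
theorem c263 : chkDef 24 (appB tabs t48 0xffffff) 37 (slp 37) 80000 20000 = true := by decide +kernel
theorem c264 : chkDef 24 (appB tabs t48 0xffffff) 37 (slp 37) 100000 20000 = true := by decide +kernel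
theorem c265 : chkDef 24 (appB tabs t48 0xffffff) 37 (slp 37) 120000 2760 = true := by decide +kernel
theorem c266 : chkDef 24 (appB tabs t48 0xffffff) 38 (slp 38) 0 20000 = true := by decide +kernel
theorem c267 : chkDef 24 (appB tabs t48 0xffffff) 38 (slp 38) 20000 20000 = true := by decide +kernel
theorem c268 : chkDef 24 (appB tabs t48 0xffffff) 38 (slp 38) 40000 20000 = true := by decide +kernel
theorem c269 : chkDef 24 (appB tabs t48 0xffffff) 38 (slp 38) 60000 20000 = true := by decide +kernel
theorem c270 : chkDef 24 (appB tabs t48 0xffffff) 38 (slp 38) 80000 20000 = true := by decide +kernel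
theorem c271 : chkDef 24 (appB tabs t48 0xffffff) 38 (slp 38) 100000 20000 = true := by decide +kernel
theorem c272 : chkDef 24 (appB tabs t48 0xffffff) 38 (slp 38) 120000 2760 = true := by decide +kernel
theorem c273 : chkDef 24 (appB tabs t48 0xffffff) 39 (slp 39) 0 20000 = true := by decide +kernel
theorem c274 : chkDef 24 (appB tabs t48 0xffffff) 39 (slp 39) 20000 20000 = true := by decide +kernel
theorem c275 : chkDef 24 (appB tabs t48 0xffffff) 39 (slp 39) 40000 20000 = true := by decide +kernel
theorem c276 : chkDef 24 (appB tabs t48 0xffffff) 39 (slp 39) 60000 20000 = true := by decide +kernel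
theorem c277 : chkDef 24 (appB tabs t48 0xffffff) 39 (slp 39) 80000 20000 = true := by decide +kernel
theorem c278 : chkDef 24 (appB tabs t48 0xffffff) 39 (slp 39) 100000 20000 = true := by decide +kernel
theorem c279 : chkDef 24 (appB tabs t48 0xffffff) 39 (slp 39) 120000 2760 = true := by decide +kernel
theorem c280 : chkDef 24 (appB tabs t48 0xffffff) 40 (slp 40) 0 20000 = true := by decide +kernel
theorem c281 : chkDef 24 (appB tabs t48 0xffffff) 40 (slp 40) 20000 20000 = true := by decide +kernel
theorem c282 : chkDef 24 (appB tabs t48 0xffffff) 40 (slp 40) 40000 20000 = true := by decide +kernel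
theorem c283 : chkDef 24 (appB tabs t48 0xffffff) 40 (slp 40) 60000 20000 = true := by decide +kernel
theorem c284 : chkDef 24 (appB tabs t48 0xffffff) 40 (slp 40) 80000 20000 = true := by decide +kernel
theorem c285 : chkDef 24 (appB tabs t48 0xffffff) 40 (slp 40) 100000 20000 = true := by decide +kernel
theorem c286 : chkDef 24 (appB tabs t48 0xffffff) 40 (slp 40) 120000 2760 = true := by decide +kernel
theorem c287 : chkDef 24 (appB tabs t48 0xffffff) 41 (slp 41) 0 20000 = true := by decide +kernel
theorem c288 : chkDef 24 (appB tabs t48 0xffffff) 41 (slp 41) 20000 20000 = true := by decide +kernel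
theorem c289 : chkDef 24 (appB tabs t48 0xffffff) 41 (slp 41) 40000 20000 = true := by decide +kernel
theorem c290 : chkDef 24 (appB tabs t48 0xffffff) 41 (slp 41) 60000 20000 = true := by decide +kernel
theorem c291 : chkDef 24 (appB tabs t48 0xffffff) 41 (slp 41) 80000 20000 = true := by decide +kernel
theorem c292 : chkDef 24 (appB tabs t48 0xffffff) 41 (slp 41) 100000 20000 = true := by decide +kernel
theorem c293 : chkDef 24 (appB tabs t48 0xffffff) 41 (slp 41) 120000 2760 = true := by decide +kernel
theorem c294 : chkDef 24 (appB tabs t48 0xffffff) 42 (slp 42) 0 20000 = true := by decide +kernel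
theorem c295 : chkDef 24 (appB tabs t48 0xffffff) 42 (slp 42) 20000 20000 = true := by decide +kernel
theorem c296 : chkDef 24 (appB tabs t48 0xffffff) 42 (slp 42) 40000 20000 = true := by decide +kernel
theorem c297 : chkDef 24 (appB tabs t48 0xffffff) 42 (slp 42) 60000 20000 = true := by decide +kernel
theorem c298 : chkDef 24 (appB tabs t48 0xffffff) 42 (slp 42) 80000 20000 = true := by decide +kernel
theorem c299 : chkDef 24 (appB tabs t48 0xffffff) 42 (slp 42) 100000 20000 = true := by decide +kernel
theorem c300 : chkDef 24 (appB tabs t48 0xffffff) 42 (slp 42) 120000 2760 = true := by decide +kernel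
theorem c301 : chkDef 24 (appB tabs t48 0xffffff) 43 (slp 43) 0 20000 = true := by decide +kernel
theorem c302 : chkDef 24 (appB tabs t48 0xffffff) 43 (slp 43) 20000 20000 = true := by decide +kernel
theorem c303 : chkDef 24 (appB tabs t48 0xffffff) 43 (slp 43) 40000 20000 = true := by decide +kernel
theorem c304 : chkDef 24 (appB tabs t48 0xffffff) 43 (slp 43) 60000 20000 = true := by decide +kernel
theorem c305 : chkDef 24 (appB tabs t48 0xffffff) 43 (slp 43) 80000 20000 = true := by decide +kernel
theorem c306 : chkDef 24 (appB tabs t48 0xffffff) 43 (slp 43) 100000 20000 = true := by decide +kernel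
theorem c307 : chkDef 24 (appB tabs t48 0xffffff) 43 (slp 43) 120000 2760 = true := by decide +kernel
theorem c308 : chkDef 24 (appB tabs t48 0xffffff) 44 (slp 44) 0 20000 = true := by decide +kernel
theorem c309 : chkDef 24 (appB tabs t48 0xffffff) 44 (slp 44) 20000 20000 = true := by decide +kernel
theorem c310 : chkDef 24 (appB tabs t48 0xffffff) 44 (slp 44) 40000 20000 = true := by decide +kernel
theorem c311 : chkDef 24 (appB tabs t48 0xffffff) 44 (slp 44) 60000 20000 = true := by decide +kernel
theorem c312 : chkDef 24 (appB tabs t48 0xffffff) 44 (slp 44) 80000 20000 = true := by decide +kernel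
theorem c313 : chkDef 24 (appB tabs t48 0xffffff) 44 (slp 44) 100000 20000 = true := by decide +kernel
theorem c314 : chkDef 24 (appB tabs t48 0xffffff) 44 (slp 44) 120000 2760 = true := by decide +kernel
theorem c315 : chkDef 24 (appB tabs t48 0xffffff) 45 (slp 45) 0 20000 = true := by decide +kernel
theorem c316 : chkDef 24 (appB tabs t48 0xffffff) 45 (slp 45) 20000 20000 = true := by decide +kernel
theorem c317 : chkDef 24 (appB tabs t48 0xffffff) 45 (slp 45) 40000 20000 = true := by decide +kernel
theorem c318 : chkDef 24 (appB tabs t48 0xffffff) 45 (slp 45) 60000 20000 = true := by decide +kernel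
theorem c319 : chkDef 24 (appB tabs t48 0xffffff) 45 (slp 45) 80000 20000 = true := by decide +kernel
theorem c320 : chkDef 24 (appB tabs t48 0xffffff) 45 (slp 45) 100000 20000 = true := by decide +kernel
theorem c321 : chkDef 24 (appB tabs t48 0xffffff) 45 (slp 45) 120000 2760 = true := by decide +kernel
theorem c322 : chkDef 24 (appB tabs t48 0xffffff) 46 (slp 46) 0 20000 = true := by decide +kernel
theorem c323 : chkDef 24 (appB tabs t48 0xffffff) 46 (slp 46) 20000 20000 = true := by decide +kernel

end Cfsg.Agent.CG.ON
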