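import Cfsg.Agent.Lib.Grp.ON.Defs

set_option autoImplicit false
set_option maxRecDepth 100000
set_option Elab.async false
set_option linter.unusedSectionVars false

namespace Cfsg.Agent.CG.ON

theorem c324 : chkDef 24 (appB tabs t48 0xffffff) 46 (slp 46) 40000 20000 = true := by decide +kernel
theorem c325 : chkDef 24 (appB tabs t48 0xffffff) 46 (slp 46) 60000 20000 = true := by decide +kernel
theorem c326 : chkDef 24 (appB tabs t48 0xffffff) 46 (slp 46) 80000 20000 = true := by decide +kernel
theorem c327 : chkDef 24 (appB tabs t48 0xffffff) 46 (slp 46) 100000 20000 = true := by decide +kernel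
theorem c328 : chkDef 24 (appB tabs t48 0xffffff) 46 (slp 46) 120000 2760 = true := by decide +kernel
theorem c329 : chkDef 24 (appB tabs t48 0xffffff) 47 (slp 47) 0 20000 = true := by decide +kernel
theorem c330 : chkDef 24 (appB tabs t48 0xffffff) 47 (slp 47) 20000 20000 = true := by decide +kernel
theorem c331 : chkDef 24 (appB tabs t48 0xffffff) 47 (slp 47) 40000 20000 = true := by decide +kernel
theorem c332 : chkDef 24 (appB tabs t48 0xffffff) 47 (slp 47) 60000 20000 = true := by decide +kernel
theorem c333 : chkDef 24 (appB tabs t48 0xffffff) 47 (slp 47) 80000 20000 = true := by decide +kernel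
theorem c334 : chkDef 24 (appB tabs t48 0xffffff) 47 (slp 47) 100000 20000 = true := by decide +kernel
theorem c335 : chkDef 24 (appB tabs t48 0xffffff) 47 (slp 47) 120000 2760 = true := by decide +kernel
theorem c336 : chkDef 24 (appB tabs t48 0xffffff) 48 (false, []) 0 20000 = true := by decide +kernel
theorem c337 : chkDef 24 (appB tabs t48 0xffffff) 48 (false, []) 20000 20000 = true := by decide +kernel
theorem c338 : chkDef 24 (appB tabs t48 0xffffff) 48 (false, []) 40000 20000 = true := by decide +kernel
theorem c339 : chkDef 24 (appB tabs t48 0xffffff) 48 (false, []) 60000 20000 = true := by decide +kernel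
theorem c340 : chkDef 24 (appB tabs t48 0xffffff) 48 (false, []) 80000 20000 = true := by decide +kernel
theorem c341 : chkDef 24 (appB tabs t48 0xffffff) 48 (false, []) 100000 20000 = true := by decide +kernel
theorem c342 : chkDef 24 (appB tabs t48 0xffffff) 48 (false, []) 120000 2760 = true := by decide +kernel
theorem c343 : mc0.chk (appB tabs t48 0xffffff) 1 20000 = true := by decide +kernel
theorem c344 : mc0.chk (appB tabs t48 0xffffff) 20001 20000 = true := by decide +kernel
theorem c345 : mc0.chk (appB tabs t48 0xffffff) 40001 20000 = true := by decide +kernel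
theorem c346 : mc0.chk (appB tabs t48 0xffffff) 60001 20000 = true := by decide +kernel
theorem c347 : mc0.chk (appB tabs t48 0xffffff) 80001 20000 = true := by decide +kernel
theorem c348 : mc0.chk (appB tabs t48 0xffffff) 100001 20000 = true := by decide +kernel
theorem c349 : mc0.chk (appB tabs t48 0xffffff) 120001 2759 = true := by decide +kernel
theorem c350 : mc1.chk (appB tabs t48 0xffffff) 1 20000 = true := by decide +kernel
theorem c351 : mc1.chk (appB tabs t48 0xffffff) 20001 20000 = true := by decide +kernel
theorem c352 : mc1.chk (appB tabs t48 0xffffff) 40001 12135 = true := by decide +kernel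
theorem c353 : mc2.chk (appB tabs t48 0xffffff) 1 71 = true := by decide +kernel
theorem c354 : okcb 122760 24 (bases mc) = true := by decide +kernel
theorem c355 : headAll (appB tabs t48 0xffffff) mc [] = true := by decide +kernel
theorem c356 : oneAll 24 (appB tabs t48 0xffffff) [0,1] 0 20000 = true := by decide +kernel
theorem c357 : oneAll 24 (appB tabs t48 0xffffff) [0,1] 20000 20000 = true := by decide +kernel
theorem c358 : oneAll 24 (appB tabs t48 0xffffff) [0,1] 40000 20000 = true := by decide +kernel
theorem c359 : oneAll 24 (appB tabs t48 0xffffff) [0,1] 60000 20000 = true := by decide +kernel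
theorem c360 : oneAll 24 (appB tabs t48 0xffffff) [0,1] 80000 20000 = true := by decide +kernel
theorem c361 : oneAll 24 (appB tabs t48 0xffffff) [0,1] 100000 20000 = true := by decide +kernel
theorem c362 : oneAll 24 (appB tabs t48 0xffffff) [0,1] 120000 2760 = true := by decide +kernel
theorem c363 : oneAll 24 (appB tabs t48 0xffffff) [2,2] 0 20000 = true := by decide +kernel
theorem c364 : oneAll 24 (appB tabs t48 0xffffff) [2,2] 20000 20000 = true := by decide +kernel
theorem c365 : oneAll 24 (appB tabs t48 0xffffff) [2,2] 40000 20000 = true := by decide +kernel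
theorem c366 : oneAll 24 (appB tabs t48 0xffffff) [2,2] 60000 20000 = true := by decide +kernel
theorem c367 : oneAll 24 (appB tabs t48 0xffffff) [2,2] 80000 20000 = true := by decide +kernel
theorem c368 : oneAll 24 (appB tabs t48 0xffffff) [2,2] 100000 20000 = true := by decide +kernel
theorem c369 : oneAll 24 (appB tabs t48 0xffffff) [2,2] 120000 2760 = true := by decide +kernel
theorem c370 : oneAll 24 (appB tabs t48 0xffffff) [3,3] 0 20000 = true := by decide +kernel
theorem c371 : oneAll 24 (appB tabs t48 0xffffff) [3,3] 20000 20000 = true := by decide +kernel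
theorem c372 : oneAll 24 (appB tabs t48 0xffffff) [3,3] 40000 20000 = true := by decide +kernel
theorem c373 : oneAll 24 (appB tabs t48 0xffffff) [3,3] 60000 20000 = true := by decide +kernel
theorem c374 : oneAll 24 (appB tabs t48 0xffffff) [3,3] 80000 20000 = true := by decide +kernel
theorem c375 : oneAll 24 (appB tabs t48 0xffffff) [3,3] 100000 20000 = true := by decide +kernel
theorem c376 : oneAll 24 (appB tabs t48 0xffffff) [3,3] 120000 2760 = true := by decide +kernel
theorem c377 : oneAll 24 (appB tabs t48 0xffffff) [4,4] 0 20000 = true := by decide +kernel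
theorem c378 : oneAll 24 (appB tabs t48 0xffffff) [4,4] 20000 20000 = true := by decide +kernel
theorem c379 : oneAll 24 (appB tabs t48 0xffffff) [4,4] 40000 20000 = true := by decide +kernel
theorem c380 : oneAll 24 (appB tabs t48 0xffffff) [4,4] 60000 20000 = true := by decide +kernel
theorem c381 : oneAll 24 (appB tabs t48 0xffffff) [4,4] 80000 20000 = true := by decide +kernel
theorem c382 : oneAll 24 (appB tabs t48 0xffffff) [4,4] 100000 20000 = true := by decide +kernel
theorem c383 : oneAll 24 (appB tabs t48 0xffffff) [4,4] 120000 2760 = true := by decide +kernel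
theorem c384 : oneAll 24 (appB tabs t48 0xffffff) [5,5] 0 20000 = true := by decide +kernel
theorem c385 : oneAll 24 (appB tabs t48 0xffffff) [5,5] 20000 20000 = true := by decide +kernel
theorem c386 : oneAll 24 (appB tabs t48 0xffffff) [5,5] 40000 20000 = true := by decide +kernel
theorem c387 : oneAll 24 (appB tabs t48 0xffffff) [5,5] 60000 20000 = true := by decide +kernel
theorem c388 : oneAll 24 (appB tabs t48 0xffffff) [5,5] 80000 20000 = true := by decide +kernel
theorem c389 : oneAll 24 (appB tabs t48 0xffffff) [5,5] 100000 20000 = true := by decide +kernel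
theorem c390 : oneAll 24 (appB tabs t48 0xffffff) [5,5] 120000 2760 = true := by decide +kernel
theorem c391 : oneAll 24 (appB tabs t48 0xffffff) [6,6] 0 20000 = true := by decide +kernel
theorem c392 : oneAll 24 (appB tabs t48 0xffffff) [6,6] 20000 20000 = true := by decide +kernel
theorem c393 : oneAll 24 (appB tabs t48 0xffffff) [6,6] 40000 20000 = true := by decide +kernel
theorem c394 : oneAll 24 (appB tabs t48 0xffffff) [6,6] 60000 20000 = true := by decide +kernel
theorem c395 : oneAll 24 (appB tabs t48 0xffffff) [6,6] 80000 20000 = true := by decide +kernel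
theorem c396 : oneAll 24 (appB tabs t48 0xffffff) [6,6] 100000 20000 = true := by decide +kernel
theorem c397 : oneAll 24 (appB tabs t48 0xffffff) [6,6] 120000 2760 = true := by decide +kernel
theorem c398 : oneAll 24 (appB tabs t48 0xffffff) [7,7] 0 20000 = true := by decide +kernel
theorem c399 : oneAll 24 (appB tabs t48 0xffffff) [7,7] 20000 20000 = true := by decide +kernel
theorem c400 : oneAll 24 (appB tabs t48 0xffffff) [7,7] 40000 20000 = true := by decide +kernel
theorem c401 : oneAll 24 (appB tabs t48 0xffffff) [7,7] 60000 20000 = true := by decide +kernel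
theorem c402 : oneAll 24 (appB tabs t48 0xffffff) [7,7] 80000 20000 = true := by decide +kernel
theorem c403 : oneAll 24 (appB tabs t48 0xffffff) [7,7] 100000 20000 = true := by decide +kernel
theorem c404 : oneAll 24 (appB tabs t48 0xffffff) [7,7] 120000 2760 = true := by decide +kernel
theorem c405 : oneAll 24 (appB tabs t48 0xffffff) [2,3,2,3,2,3] 0 20000 = true := by decide +kernel
theorem c406 : oneAll 24 (appB tabs t48 0xffffff) [2,3,2,3,2,3] 20000 20000 = true := by decide +kernel
theorem c407 : oneAll 24 (appB tabs t48 0xffffff) [2,3,2,3,2,3] 40000 20000 = true := by decide +kernel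
theorem c408 : oneAll 24 (appB tabs t48 0xffffff) [2,3,2,3,2,3] 60000 20000 = true := by decide +kernel
theorem c409 : oneAll 24 (appB tabs t48 0xffffff) [2,3,2,3,2,3] 80000 20000 = true := by decide +kernel
theorem c410 : oneAll 24 (appB tabs t48 0xffffff) [2,3,2,3,2,3] 100000 20000 = true := by decide +kernel
theorem c411 : oneAll 24 (appB tabs t48 0xffffff) [2,3,2,3,2,3] 120000 2760 = true := by decide +kernel
theorem c412 : oneAll 24 (appB tabs t48 0xffffff) [2,4,2,4] 0 20000 = true := by decide +kernel
theorem c413 : oneAll 24 (appB tabs t48 0xffffff) [2,4,2,4] 20000 20000 = true := by decide +kernel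
theorem c414 : oneAll 24 (appB tabs t48 0xffffff) [2,4,2,4] 40000 20000 = true := by decide +kernel
theorem c415 : oneAll 24 (appB tabs t48 0xffffff) [2,4,2,4] 60000 20000 = true := by decide +kernel
theorem c416 : oneAll 24 (appB tabs t48 0xffffff) [2,4,2,4] 80000 20000 = true := by decide +kernel
theorem c417 : oneAll 24 (appB tabs t48 0xffffff) [2,4,2,4] 100000 20000 = true := by decide +kernel
theorem c418 : oneAll 24 (appB tabs t48 0xffffff) [2,4,2,4] 120000 2760 = true := by decide +kernel
theorem c419 : oneAll 24 (appB tabs t48 0xffffff) [2,5,2,5] 0 20000 = true := by decide +kernel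
theorem c420 : oneAll 24 (appB tabs t48 0xffffff) [2,5,2,5] 20000 20000 = true := by decide +kernel
theorem c421 : oneAll 24 (appB tabs t48 0xffffff) [2,5,2,5] 40000 20000 = true := by decide +kernel
theorem c422 : oneAll 24 (appB tabs t48 0xffffff) [2,5,2,5] 60000 20000 = true := by decide +kernel
theorem c423 : oneAll 24 (appB tabs t48 0xffffff) [2,5,2,5] 80000 20000 = true := by decide +kernel
theorem c424 : oneAll 24 (appB tabs t48 0xffffff) [2,5,2,5] 100000 20000 = true := by decide +kernel
theorem c425 : oneAll 24 (appB tabs t48 0xffffff) [2,5,2,5] 120000 2760 = true := by decide +kernel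
theorem c426 : oneAll 24 (appB tabs t48 0xffffff) [2,6,2,6] 0 20000 = true := by decide +kernel
theorem c427 : oneAll 24 (appB tabs t48 0xffffff) [2,6,2,6] 20000 20000 = true := by decide +kernel
theorem c428 : oneAll 24 (appB tabs t48 0xffffff) [2,6,2,6] 40000 20000 = true := by decide +kernel
theorem c429 : oneAll 24 (appB tabs t48 0xffffff) [2,6,2,6] 60000 20000 = true := by decide +kernel
theorem c430 : oneAll 24 (appB tabs t48 0xffffff) [2,6,2,6] 80000 20000 = true := by decide +kernel
theorem c431 : oneAll 24 (appB tabs t48 0xffffff) [2,6,2,6] 100000 20000 = true := by decide +kernel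
theorem c432 : oneAll 24 (appB tabs t48 0xffffff) [2,6,2,6] 120000 2760 = true := by decide +kernel
theorem c433 : oneAll 24 (appB tabs t48 0xffffff) [2,7,2,7] 0 20000 = true := by decide +kernel
theorem c434 : oneAll 24 (appB tabs t48 0xffffff) [2,7,2,7] 20000 20000 = true := by decide +kernel
theorem c435 : oneAll 24 (appB tabs t48 0xffffff) [2,7,2,7] 40000 20000 = true := by decide +kernel
theorem c436 : oneAll 24 (appB tabs t48 0xffffff) [2,7,2,7] 60000 20000 = true := by decide +kernel
theorem c437 : oneAll 24 (appB tabs t48 0xffffff) [2,7,2,7] 80000 20000 = true := by decide +kernel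
theorem c438 : oneAll 24 (appB tabs t48 0xffffff) [2,7,2,7] 100000 20000 = true := by decide +kernel
theorem c439 : oneAll 24 (appB tabs t48 0xffffff) [2,7,2,7] 120000 2760 = true := by decide +kernel
theorem c440 : oneAll 24 (appB tabs t48 0xffffff) [3,4,3,4,3,4] 0 20000 = true := by decide +kernel
theorem c441 : oneAll 24 (appB tabs t48 0xffffff) [3,4,3,4,3,4] 20000 20000 = true := by decide +kernel

end Cfsg.Agent.CG.ON
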