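import Cfsg.Agent.Lib.Grp.ON.Defs

set_option autoImplicit false
set_option maxRecDepth 100000
set_option Elab.async false
set_option linter.unusedSectionVars false

namespace Cfsg.Agent.CG.ON

theorem c442 : oneAll 24 (appB tabs t48 0xffffff) [3,4,3,4,3,4] 40000 20000 = true := by decide +kernel
theorem c443 : oneAll 24 (appB tabs t48 0xffffff) [3,4,3,4,3,4] 60000 20000 = true := by decide +kernel
theorem c444 : oneAll 24 (appB tabs t48 0xffffff) [3,4,3,4,3,4] 80000 20000 = true := by decide +kernel
theorem c445 : oneAll 24 (appB tabs t48 0xffffff) [3,4,3,4,3,4] 100000 20000 = true := by decide +kernel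
theorem c446 : oneAll 24 (appB tabs t48 0xffffff) [3,4,3,4,3,4] 120000 2760 = true := by decide +kernel
theorem c447 : oneAll 24 (appB tabs t48 0xffffff) [3,5,3,5] 0 20000 = true := by decide +kernel
theorem c448 : oneAll 24 (appB tabs t48 0xffffff) [3,5,3,5] 20000 20000 = true := by decide +kernel
theorem c449 : oneAll 24 (appB tabs t48 0xffffff) [3,5,3,5] 40000 20000 = true := by decide +kernel
theorem c450 : oneAll 24 (appB tabs t48 0xffffff) [3,5,3,5] 60000 20000 = true := by decide +kernel
theorem c451 : oneAll 24 (appB tabs t48 0xffffff) [3,5,3,5] 80000 20000 = true := by decide +kernel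
theorem c452 : oneAll 24 (appB tabs t48 0xffffff) [3,5,3,5] 100000 20000 = true := by decide +kernel
theorem c453 : oneAll 24 (appB tabs t48 0xffffff) [3,5,3,5] 120000 2760 = true := by decide +kernel
theorem c454 : oneAll 24 (appB tabs t48 0xffffff) [3,6,3,6] 0 20000 = true := by decide +kernel
theorem c455 : oneAll 24 (appB tabs t48 0xffffff) [3,6,3,6] 20000 20000 = true := by decide +kernel
theorem c456 : oneAll 24 (appB tabs t48 0xffffff) [3,6,3,6] 40000 20000 = true := by decide +kernel
theorem c457 : oneAll 24 (appB tabs t48 0xffffff) [3,6,3,6] 60000 20000 = true := by decide +kernel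
theorem c458 : oneAll 24 (appB tabs t48 0xffffff) [3,6,3,6] 80000 20000 = true := by decide +kernel
theorem c459 : oneAll 24 (appB tabs t48 0xffffff) [3,6,3,6] 100000 20000 = true := by decide +kernel
theorem c460 : oneAll 24 (appB tabs t48 0xffffff) [3,6,3,6] 120000 2760 = true := by decide +kernel
theorem c461 : oneAll 24 (appB tabs t48 0xffffff) [3,7,3,7] 0 20000 = true := by decide +kernel
theorem c462 : oneAll 24 (appB tabs t48 0xffffff) [3,7,3,7] 20000 20000 = true := by decide +kernel
theorem c463 : oneAll 24 (appB tabs t48 0xffffff) [3,7,3,7] 40000 20000 = true := by decide +kernel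
theorem c464 : oneAll 24 (appB tabs t48 0xffffff) [3,7,3,7] 60000 20000 = true := by decide +kernel
theorem c465 : oneAll 24 (appB tabs t48 0xffffff) [3,7,3,7] 80000 20000 = true := by decide +kernel
theorem c466 : oneAll 24 (appB tabs t48 0xffffff) [3,7,3,7] 100000 20000 = true := by decide +kernel
theorem c467 : oneAll 24 (appB tabs t48 0xffffff) [3,7,3,7] 120000 2760 = true := by decide +kernel
theorem c468 : oneAll 24 (appB tabs t48 0xffffff) [4,5,4,5,4,5,4,5,4,5,4,5,4,5,4,5] 0 20000 = true := by decide +kernel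
theorem c469 : oneAll 24 (appB tabs t48 0xffffff) [4,5,4,5,4,5,4,5,4,5,4,5,4,5,4,5] 20000 20000 = true := by decide +kernel
theorem c470 : oneAll 24 (appB tabs t48 0xffffff) [4,5,4,5,4,5,4,5,4,5,4,5,4,5,4,5] 40000 20000 = true := by decide +kernel
theorem c471 : oneAll 24 (appB tabs t48 0xffffff) [4,5,4,5,4,5,4,5,4,5,4,5,4,5,4,5] 60000 20000 = true := by decide +kernel
theorem c472 : oneAll 24 (appB tabs t48 0xffffff) [4,5,4,5,4,5,4,5,4,5,4,5,4,5,4,5] 80000 20000 = true := by decide +kernel
theorem c473 : oneAll 24 (appB tabs t48 0xffffff) [4,5,4,5,4,5,4,5,4,5,4,5,4,5,4,5] 100000 20000 = true := by decide +kernel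
theorem c474 : oneAll 24 (appB tabs t48 0xffffff) [4,5,4,5,4,5,4,5,4,5,4,5,4,5,4,5] 120000 2760 = true := by decide +kernel
theorem c475 : oneAll 24 (appB tabs t48 0xffffff) [4,6,4,6] 0 20000 = true := by decide +kernel
theorem c476 : oneAll 24 (appB tabs t48 0xffffff) [4,6,4,6] 20000 20000 = true := by decide +kernel
theorem c477 : oneAll 24 (appB tabs t48 0xffffff) [4,6,4,6] 40000 20000 = true := by decide +kernel
theorem c478 : oneAll 24 (appB tabs t48 0xffffff) [4,6,4,6] 60000 20000 = true := by decide +kernel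
theorem c479 : oneAll 24 (appB tabs t48 0xffffff) [4,6,4,6] 80000 20000 = true := by decide +kernel
theorem c480 : oneAll 24 (appB tabs t48 0xffffff) [4,6,4,6] 100000 20000 = true := by decide +kernel
theorem c481 : oneAll 24 (appB tabs t48 0xffffff) [4,6,4,6] 120000 2760 = true := by decide +kernel
theorem c482 : oneAll 24 (appB tabs t48 0xffffff) [4,7,4,7] 0 20000 = true := by decide +kernel
theorem c483 : oneAll 24 (appB tabs t48 0xffffff) [4,7,4,7] 20000 20000 = true := by decide +kernel
theorem c484 : oneAll 24 (appB tabs t48 0xffffff) [4,7,4,7] 40000 20000 = true := by decide +kernel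
theorem c485 : oneAll 24 (appB tabs t48 0xffffff) [4,7,4,7] 60000 20000 = true := by decide +kernel
theorem c486 : oneAll 24 (appB tabs t48 0xffffff) [4,7,4,7] 80000 20000 = true := by decide +kernel
theorem c487 : oneAll 24 (appB tabs t48 0xffffff) [4,7,4,7] 100000 20000 = true := by decide +kernel
theorem c488 : oneAll 24 (appB tabs t48 0xffffff) [4,7,4,7] 120000 2760 = true := by decide +kernel
theorem c489 : oneAll 24 (appB tabs t48 0xffffff) [5,6,5,6,5,6] 0 20000 = true := by decide +kernel
theorem c490 : oneAll 24 (appB tabs t48 0xffffff) [5,6,5,6,5,6] 20000 20000 = true := by decide +kernel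
theorem c491 : oneAll 24 (appB tabs t48 0xffffff) [5,6,5,6,5,6] 40000 20000 = true := by decide +kernel
theorem c492 : oneAll 24 (appB tabs t48 0xffffff) [5,6,5,6,5,6] 60000 20000 = true := by decide +kernel
theorem c493 : oneAll 24 (appB tabs t48 0xffffff) [5,6,5,6,5,6] 80000 20000 = true := by decide +kernel
theorem c494 : oneAll 24 (appB tabs t48 0xffffff) [5,6,5,6,5,6] 100000 20000 = true := by decide +kernel
theorem c495 : oneAll 24 (appB tabs t48 0xffffff) [5,6,5,6,5,6] 120000 2760 = true := by decide +kernel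
theorem c496 : oneAll 24 (appB tabs t48 0xffffff) [5,7,5,7] 0 20000 = true := by decide +kernel
theorem c497 : oneAll 24 (appB tabs t48 0xffffff) [5,7,5,7] 20000 20000 = true := by decide +kernel
theorem c498 : oneAll 24 (appB tabs t48 0xffffff) [5,7,5,7] 40000 20000 = true := by decide +kernel
theorem c499 : oneAll 24 (appB tabs t48 0xffffff) [5,7,5,7] 60000 20000 = true := by decide +kernel
theorem c500 : oneAll 24 (appB tabs t48 0xffffff) [5,7,5,7] 80000 20000 = true := by decide +kernel
theorem c501 : oneAll 24 (appB tabs t48 0xffffff) [5,7,5,7] 100000 20000 = true := by decide +kernel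
theorem c502 : oneAll 24 (appB tabs t48 0xffffff) [5,7,5,7] 120000 2760 = true := by decide +kernel
theorem c503 : oneAll 24 (appB tabs t48 0xffffff) [6,7,6,7,6,7] 0 20000 = true := by decide +kernel
theorem c504 : oneAll 24 (appB tabs t48 0xffffff) [6,7,6,7,6,7] 20000 20000 = true := by decide +kernel
theorem c505 : oneAll 24 (appB tabs t48 0xffffff) [6,7,6,7,6,7] 40000 20000 = true := by decide +kernel
theorem c506 : oneAll 24 (appB tabs t48 0xffffff) [6,7,6,7,6,7] 60000 20000 = true := by decide +kernel
theorem c507 : oneAll 24 (appB tabs t48 0xffffff) [6,7,6,7,6,7] 80000 20000 = true := by decide +kernel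
theorem c508 : oneAll 24 (appB tabs t48 0xffffff) [6,7,6,7,6,7] 100000 20000 = true := by decide +kernel
theorem c509 : oneAll 24 (appB tabs t48 0xffffff) [6,7,6,7,6,7] 120000 2760 = true := by decide +kernel
theorem c510 : oneAll 24 (appB tabs t48 0xffffff) [2,7,1,1] 0 20000 = true := by decide +kernel
theorem c511 : oneAll 24 (appB tabs t48 0xffffff) [2,7,1,1] 20000 20000 = true := by decide +kernel
theorem c512 : oneAll 24 (appB tabs t48 0xffffff) [2,7,1,1] 40000 20000 = true := by decide +kernel
theorem c513 : oneAll 24 (appB tabs t48 0xffffff) [2,7,1,1] 60000 20000 = true := by decide +kernel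
theorem c514 : oneAll 24 (appB tabs t48 0xffffff) [2,7,1,1] 80000 20000 = true := by decide +kernel
theorem c515 : oneAll 24 (appB tabs t48 0xffffff) [2,7,1,1] 100000 20000 = true := by decide +kernel
theorem c516 : oneAll 24 (appB tabs t48 0xffffff) [2,7,1,1] 120000 2760 = true := by decide +kernel
theorem c517 : oneAll 24 (appB tabs t48 0xffffff) [2,7,5,4,5,4,5,4,5,4] 0 20000 = true := by decide +kernel
theorem c518 : oneAll 24 (appB tabs t48 0xffffff) [2,7,5,4,5,4,5,4,5,4] 20000 20000 = true := by decide +kernel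
theorem c519 : oneAll 24 (appB tabs t48 0xffffff) [2,7,5,4,5,4,5,4,5,4] 40000 20000 = true := by decide +kernel
theorem c520 : oneAll 24 (appB tabs t48 0xffffff) [2,7,5,4,5,4,5,4,5,4] 60000 20000 = true := by decide +kernel
theorem c521 : oneAll 24 (appB tabs t48 0xffffff) [2,7,5,4,5,4,5,4,5,4] 80000 20000 = true := by decide +kernel
theorem c522 : oneAll 24 (appB tabs t48 0xffffff) [2,7,5,4,5,4,5,4,5,4] 100000 20000 = true := by decide +kernel
theorem c523 : oneAll 24 (appB tabs t48 0xffffff) [2,7,5,4,5,4,5,4,5,4] 120000 2760 = true := by decide +kernel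
theorem c524 : oneAll 24 (appB tabs t48 0xffffff) [4,1,5,1,5,4,5,0,5,0] 0 20000 = true := by decide +kernel
theorem c525 : oneAll 24 (appB tabs t48 0xffffff) [4,1,5,1,5,4,5,0,5,0] 20000 20000 = true := by decide +kernel

end Cfsg.Agent.CG.ON
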