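import Cfsg.Agent.Lib.Grp.ON.Defs

set_option autoImplicit false
set_option maxRecDepth 100000
set_option Elab.async false
set_option linter.unusedSectionVars false

namespace Cfsg.Agent.CG.ON

theorem c526 : oneAll 24 (appB tabs t48 0xffffff) [4,1,5,1,5,4,5,0,5,0] 40000 20000 = true := by decide +kernel
theorem c527 : oneAll 24 (appB tabs t48 0xffffff) [4,1,5,1,5,4,5,0,5,0] 60000 20000 = true := by decide +kernel
theorem c528 : oneAll 24 (appB tabs t48 0xffffff) [4,1,5,1,5,4,5,0,5,0] 80000 20000 = true := by decide +kernel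
theorem c529 : oneAll 24 (appB tabs t48 0xffffff) [4,1,5,1,5,4,5,0,5,0] 100000 20000 = true := by decide +kernel
theorem c530 : oneAll 24 (appB tabs t48 0xffffff) [4,1,5,1,5,4,5,0,5,0] 120000 2760 = true := by decide +kernel
theorem c531 : oneAll 24 (appB tabs t48 0xffffff) [5,1,4,1,4,5,4,0,4,0] 0 20000 = true := by decide +kernel
theorem c532 : oneAll 24 (appB tabs t48 0xffffff) [5,1,4,1,4,5,4,0,4,0] 20000 20000 = true := by decide +kernel
theorem c533 : oneAll 24 (appB tabs t48 0xffffff) [5,1,4,1,4,5,4,0,4,0] 40000 20000 = true := by decide +kernel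
theorem c534 : oneAll 24 (appB tabs t48 0xffffff) [5,1,4,1,4,5,4,0,4,0] 60000 20000 = true := by decide +kernel
theorem c535 : oneAll 24 (appB tabs t48 0xffffff) [5,1,4,1,4,5,4,0,4,0] 80000 20000 = true := by decide +kernel
theorem c536 : oneAll 24 (appB tabs t48 0xffffff) [5,1,4,1,4,5,4,0,4,0] 100000 20000 = true := by decide +kernel
theorem c537 : oneAll 24 (appB tabs t48 0xffffff) [5,1,4,1,4,5,4,0,4,0] 120000 2760 = true := by decide +kernel
theorem c538 : oneAll 24 (appB tabs t48 0xffffff) [3,4,5,0,3,4,5,0,3,4,5,0,3,4,5,0,3,4,5,0] 0 20000 = true := by decide +kernel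
theorem c539 : oneAll 24 (appB tabs t48 0xffffff) [3,4,5,0,3,4,5,0,3,4,5,0,3,4,5,0,3,4,5,0] 20000 20000 = true := by decide +kernel
theorem c540 : oneAll 24 (appB tabs t48 0xffffff) [3,4,5,0,3,4,5,0,3,4,5,0,3,4,5,0,3,4,5,0] 40000 20000 = true := by decide +kernel
theorem c541 : oneAll 24 (appB tabs t48 0xffffff) [3,4,5,0,3,4,5,0,3,4,5,0,3,4,5,0,3,4,5,0] 60000 20000 = true := by decide +kernel
theorem c542 : oneAll 24 (appB tabs t48 0xffffff) [3,4,5,0,3,4,5,0,3,4,5,0,3,4,5,0,3,4,5,0] 80000 20000 = true := by decide +kernel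
theorem c543 : oneAll 24 (appB tabs t48 0xffffff) [3,4,5,0,3,4,5,0,3,4,5,0,3,4,5,0,3,4,5,0] 100000 20000 = true := by decide +kernel
theorem c544 : oneAll 24 (appB tabs t48 0xffffff) [3,4,5,0,3,4,5,0,3,4,5,0,3,4,5,0,3,4,5,0] 120000 2760 = true := by decide +kernel
theorem c545 : oneAll 24 (appB tabs t48 0xffffff) [0,3,4,0,4,3,0,3,4,0,4] 0 20000 = true := by decide +kernel
theorem c546 : oneAll 24 (appB tabs t48 0xffffff) [0,3,4,0,4,3,0,3,4,0,4] 20000 20000 = true := by decide +kernel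
theorem c547 : oneAll 24 (appB tabs t48 0xffffff) [0,3,4,0,4,3,0,3,4,0,4] 40000 20000 = true := by decide +kernel
theorem c548 : oneAll 24 (appB tabs t48 0xffffff) [0,3,4,0,4,3,0,3,4,0,4] 60000 20000 = true := by decide +kernel
theorem c549 : oneAll 24 (appB tabs t48 0xffffff) [0,3,4,0,4,3,0,3,4,0,4] 80000 20000 = true := by decide +kernel
theorem c550 : oneAll 24 (appB tabs t48 0xffffff) [0,3,4,0,4,3,0,3,4,0,4] 100000 20000 = true := by decide +kernel
theorem c551 : oneAll 24 (appB tabs t48 0xffffff) [0,3,4,0,4,3,0,3,4,0,4] 120000 2760 = true := by decide +kernel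
theorem c552 : oneAll 24 (appB tabs t48 0xffffff) [0,6,5,0,5,6,0,6,5,0,5] 0 20000 = true := by decide +kernel
theorem c553 : oneAll 24 (appB tabs t48 0xffffff) [0,6,5,0,5,6,0,6,5,0,5] 20000 20000 = true := by decide +kernel
theorem c554 : oneAll 24 (appB tabs t48 0xffffff) [0,6,5,0,5,6,0,6,5,0,5] 40000 20000 = true := by decide +kernel
theorem c555 : oneAll 24 (appB tabs t48 0xffffff) [0,6,5,0,5,6,0,6,5,0,5] 60000 20000 = true := by decide +kernel
theorem c556 : oneAll 24 (appB tabs t48 0xffffff) [0,6,5,0,5,6,0,6,5,0,5] 80000 20000 = true := by decide +kernel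
theorem c557 : oneAll 24 (appB tabs t48 0xffffff) [0,6,5,0,5,6,0,6,5,0,5] 100000 20000 = true := by decide +kernel
theorem c558 : oneAll 24 (appB tabs t48 0xffffff) [0,6,5,0,5,6,0,6,5,0,5] 120000 2760 = true := by decide +kernel

end Cfsg.Agent.CG.ON
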