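import Cfsg.Agent.Lib.Grp.ON.C0
import Cfsg.Agent.Lib.Grp.ON.C1
import Cfsg.Agent.Lib.Grp.ON.C2
import Cfsg.Agent.Lib.Grp.ON.C3
import Cfsg.Agent.Lib.Grp.ON.C4
import Cfsg.Agent.Lib.Grp.ON.C5

set_option autoImplicit false
set_option maxRecDepth 100000
set_option Elab.async false
set_option linter.unusedSectionVars false

namespace Cfsg.Agent.CG.ON

theorem tabOK : TabOK 122760 24 app 8 48 inv slp where
  w_pos := by decide
  base := allRange_of_allL (l := [0,1,2,3,4,5,6,7]) (by decide +kernel) (allL_cons (allLt_of_allRange (rapp (allRange (chkBase 122760 24 (appB tabs t48 0xffffff) 0 (inv 0))) (fun _ _ _ => allRange_append) 122760 (rapp (allRange (chkBase 122760 24 (appB tabs t48 0xffffff) 0 (inv 0))) (fun _ _ _ => allRange_append) 120000 (rapp (allRange (chkBase 122760 24 (appB tabs t48 0xffffff) 0 (inv 0))) (fun _ _ _ => allRange_append) 100000 (rapp (allRange (chkBase 122760 24 (appB tabs t48 0xffffff) 0 (inv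 0))) (fun _ _ _ => allRange_append) 80000 (rapp (allRange (chkBase 122760 24 (appB tabs t48 0xffffff) 0 (inv 0))) (fun _ _ _ => allRange_append) 60000 (rapp (allRange (chkBase 122760 24 (appB tabs t48 0xffffff) 0 (inv 0))) (fun _ _ _ => allRange_append) 40000 c0 c1 rfl rfl) c2 rfl rfl) c3 rfl rfl) c4 rfl rfl) c5 rfl rfl) c6 rfl rfl)) (allL_cons (allLt_of_allRange (rapp (allRange (chkBase 122760 24 (appB tabs t48 0xffffff) 1 (inv 1))) (fun _ _ _ => allRange_append) 122760 (rapp (allRange (chkBase 122760 24 (appB tabs t48 0xffffff) 1 (inv 1))) (fun _ _ _ => allRange_append) 120000 (rapp (allRange (chkBase 122760 24 (appB tabs t48 0xffffff) 1 (inv 1))) (fun _ _ _ => allRange_append) 100000 (rapp (allRange (chkBase 122760 24 (appB tabs t48 0xffffff) 1 (inv 1))) (fun _ _ _ => allRange_append) 80000 (rapp (allRange (chkBase 122760 24 (appB tabs t48 0xffffff) 1 (inv 1))) (fun _ _ _ => allRange_append) 60000 (rapp (allRange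 (chkBase 122760 24 (appB tabs t48 0xffffff) 1 (inv 1))) (fun _ _ _ => allRange_append) 40000 c7 c8 rfl rfl) c9 rfl rfl) c10 rfl rfl) c11 rfl rfl) c12 rfl rfl) c13 rfl rfl)) (allL_cons (allLt_of_allRange (rapp (allRange (chkBase 122760 24 (appB tabs t48 0xffffff) 2 (inv 2))) (fun _ _ _ => allRange_append) 122760 (rapp (allRange (chkBase 122760 24 (appB tabs t48 0xffffff) 2 (inv 2))) (fun _ _ _ => allRange_append) 120000 (rapp (allRange (chkBase 122760 24 (appB tabs t48 0xffffff) 2 (inv 2))) (fun _ _ _ => allRange_append) 100000 (rapp (allRange (chkBase 122760 24 (appB tabs t48 0xffffff) 2 (inv 2))) (fun _ _ _ => allRange_append) 80000 (rapp (allRange (chkBase 122760 24 (appB tabs t48 0xffffff) 2 (inv 2))) (fun _ _ _ => allRange_append) 60000 (rapp (allRange (chkBase 122760 24 (appB tabs t48 0xffffff) 2 (inv 2))) (fun _ _ _ => allRange_append) 40000 c14 c15 rfl rfl) c16 rfl rfl) c17 rfl rfl) c18 rfl rfl) c19 rfl rfl)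 c20 rfl rfl)) (allL_cons (allLt_of_allRange (rapp (allRange (chkBase 122760 24 (appB tabs t48 0xffffff) 3 (inv 3))) (fun _ _ _ => allRange_append) 122760 (rapp (allRange (chkBase 122760 24 (appB tabs t48 0xffffff) 3 (inv 3))) (fun _ _ _ => allRange_append) 120000 (rapp (allRange (chkBase 122760 24 (appB tabs t48 0xffffff) 3 (inv 3))) (fun _ _ _ => allRange_append) 100000 (rapp (allRange (chkBase 122760 24 (appB tabs t48 0xffffff) 3 (inv 3))) (fun _ _ _ => allRange_append) 80000 (rapp (allRange (chkBase 122760 24 (appB tabs t48 0xffffff) 3 (inv 3))) (fun _ _ _ => allRange_append) 60000 (rapp (allRange (chkBase 122760 24 (appB tabs t48 0xffffff) 3 (inv 3))) (fun _ _ _ => allRange_append) 40000 c21 c22 rfl rfl) c23 rfl rfl) c24 rfl rfl) c25 rfl rfl) c26 rfl rfl) c27 rfl rfl)) (allL_cons (allLt_of_allRange (rapp (allRange (chkBase 122760 24 (appB tabs t48 0xffffff) 4 (inv 4))) (fun _ _ _ => allRange_append) 122760 (rapp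 (allRange (chkBase 122760 24 (appB tabs t48 0xffffff) 4 (inv 4))) (fun _ _ _ => allRange_append) 120000 (rapp (allRange (chkBase 122760 24 (appB tabs t48 0xffffff) 4 (inv 4))) (fun _ _ _ => allRange_append) 100000 (rapp (allRange (chkBase 122760 24 (appB tabs t48 0xffffff) 4 (inv 4))) (fun _ _ _ => allRange_append) 80000 (rapp (allRange (chkBase 122760 24 (appB tabs t48 0xffffff) 4 (inv 4))) (fun _ _ _ => allRange_append) 60000 (rapp (allRange (chkBase 122760 24 (appB tabs t48 0xffffff) 4 (inv 4))) (fun _ _ _ => allRange_append) 40000 c28 c29 rfl rfl) c30 rfl rfl) c31 rfl rfl) c32 rfl rfl) c33 rfl rfl) c34 rfl rfl)) (allL_cons (allLt_of_allRange (rapp (allRange (chkBase 122760 24 (appB tabs t48 0xffffff) 5 (inv 5))) (fun _ _ _ => allRange_append) 122760 (rapp (allRange (chkBase 122760 24 (appB tabs t48 0xffffff) 5 (inv 5))) (fun _ _ _ => allRange_append) 120000 (rapp (allRange (chkBase 122760 24 (appB tabs t48 0xffffff)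 5 (inv 5))) (fun _ _ _ => allRange_append) 100000 (rapp (allRange (chkBase 122760 24 (appB tabs t48 0xffffff) 5 (inv 5))) (fun _ _ _ => allRange_append) 80000 (rapp (allRange (chkBase 122760 24 (appB tabs t48 0xffffff) 5 (inv 5))) (fun _ _ _ => allRange_append) 60000 (rapp (allRange (chkBase 122760 24 (appB tabs t48 0xffffff) 5 (inv 5))) (fun _ _ _ => allRange_append) 40000 c35 c36 rfl rfl) c37 rfl rfl) c38 rfl rfl) c39 rfl rfl) c40 rfl rfl) c41 rfl rfl)) (allL_cons (allLt_of_allRange (rapp (allRange (chkBase 122760 24 (appB tabs t48 0xffffff) 6 (inv 6))) (fun _ _ _ => allRange_append) 122760 (rapp (allRange (chkBase 122760 24 (appB tabs t48 0xffffff) 6 (inv 6))) (fun _ _ _ => allRange_append) 120000 (rapp (allRange (chkBase 122760 24 (appB tabs t48 0xffffff) 6 (inv 6))) (fun _ _ _ => allRange_append) 100000 (rapp (allRange (chkBase 122760 24 (appB tabs t48 0xffffff) 6 (inv 6))) (fun _ _ _ => allRange_append) 80000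 (rapp (allRange (chkBase 122760 24 (appB tabs t48 0xffffff) 6 (inv 6))) (fun _ _ _ => allRange_append) 60000 (rapp (allRange (chkBase 122760 24 (appB tabs t48 0xffffff) 6 (inv 6))) (fun _ _ _ => allRange_append) 40000 c42 c43 rfl rfl) c44 rfl rfl) c45 rfl rfl) c46 rfl rfl) c47 rfl rfl) c48 rfl rfl)) (allL_cons (allLt_of_allRange (rapp (allRange (chkBase 122760 24 (appB tabs t48 0xffffff) 7 (inv 7))) (fun _ _ _ => allRange_append) 122760 (rapp (allRange (chkBase 122760 24 (appB tabs t48 0xffffff) 7 (inv 7))) (fun _ _ _ => allRange_append) 120000 (rapp (allRange (chkBase 122760 24 (appB tabs t48 0xffffff) 7 (inv 7))) (fun _ _ _ => allRange_append) 100000 (rapp (allRange (chkBase 122760 24 (appB tabs t48 0xffffff) 7 (inv 7))) (fun _ _ _ => allRange_append) 80000 (rapp (allRange (chkBase 122760 24 (appB tabs t48 0xffffff) 7 (inv 7))) (fun _ _ _ => allRange_append) 60000 (rapp (allRange (chkBase 122760 24 (appB tabs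 t48 0xffffff) 7 (inv 7))) (fun _ _ _ => allRange_append) 40000 c49 c50 rfl rfl) c51 rfl rfl) c52 rfl rfl) c53 rfl rfl) c54 rfl rfl) c55 rfl rfl)) (allL_nil _)))))))))
  defs := allRange_of_allL (l := [8,9,10,11,12,13,14,15,16,17,18,19,20,21,22,23,24,25,26,27,28,29,30,31,32,33,34,35,36,37,38,39,40,41,42,43,44,45,46,47]) (by decide +kernel) (allL_cons (rapp (chkDef 24 (appB tabs t48 0xffffff) 8 (slp 8)) (fun _ _ _ => chkDef_append) 122760 (rapp (chkDef 24 (appB tabs t48 0xffffff) 8 (slp 8)) (fun _ _ _ => chkDef_append) 120000 (rapp (chkDef 24 (appB tabs t48 0xffffff) 8 (slp 8)) (fun _ _ _ => chkDef_append) 100000 (rapp (chkDef 24 (appB tabs t48 0xffffff) 8 (slp 8)) (fun _ _ _ => chkDef_append) 80000 (rapp (chkDef 24 (appB tabs t48 0xffffff) 8 (slp 8)) (fun _ _ _ => chkDef_append) 60000 (rapp (chkDef 24 (appB tabs t48 0xffffff) 8 (slp 8)) (fun _ _ _ => chkDef_append) 40000 c56 c57 rfl rfl) c58 rfl rfl) c59 rfl rfl)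 c60 rfl rfl) c61 rfl rfl) c62 rfl rfl) (allL_cons (rapp (chkDef 24 (appB tabs t48 0xffffff) 9 (slp 9)) (fun _ _ _ => chkDef_append) 122760 (rapp (chkDef 24 (appB tabs t48 0xffffff) 9 (slp 9)) (fun _ _ _ => chkDef_append) 120000 (rapp (chkDef 24 (appB tabs t48 0xffffff) 9 (slp 9)) (fun _ _ _ => chkDef_append) 100000 (rapp (chkDef 24 (appB tabs t48 0xffffff) 9 (slp 9)) (fun _ _ _ => chkDef_append) 80000 (rapp (chkDef 24 (appB tabs t48 0xffffff) 9 (slp 9)) (fun _ _ _ => chkDef_append) 60000 (rapp (chkDef 24 (appB tabs t48 0xffffff) 9 (slp 9)) (fun _ _ _ => chkDef_append) 40000 c63 c64 rfl rfl) c65 rfl rfl) c66 rfl rfl) c67 rfl rfl) c68 rfl rfl) c69 rfl rfl) (allL_cons (rapp (chkDef 24 (appB tabs t48 0xffffff) 10 (slp 10)) (fun _ _ _ => chkDef_append) 122760 (rapp (chkDef 24 (appB tabs t48 0xffffff) 10 (slp 10)) (fun _ _ _ => chkDef_append) 120000 (rapp (chkDef 24 (appB tabs t48 0xffffff) 10 (slp 10)) (fun _ _ _ =>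 chkDef_append) 100000 (rapp (chkDef 24 (appB tabs t48 0xffffff) 10 (slp 10)) (fun _ _ _ => chkDef_append) 80000 (rapp (chkDef 24 (appB tabs t48 0xffffff) 10 (slp 10)) (fun _ _ _ => chkDef_append) 60000 (rapp (chkDef 24 (appB tabs t48 0xffffff) 10 (slp 10)) (fun _ _ _ => chkDef_append) 40000 c70 c71 rfl rfl) c72 rfl rfl) c73 rfl rfl) c74 rfl rfl) c75 rfl rfl) c76 rfl rfl) (allL_cons (rapp (chkDef 24 (appB tabs t48 0xffffff) 11 (slp 11)) (fun _ _ _ => chkDef_append) 122760 (rapp (chkDef 24 (appB tabs t48 0xffffff) 11 (slp 11)) (fun _ _ _ => chkDef_append) 120000 (rapp (chkDef 24 (appB tabs t48 0xffffff) 11 (slp 11)) (fun _ _ _ => chkDef_append) 100000 (rapp (chkDef 24 (appB tabs t48 0xffffff) 11 (slp 11)) (fun _ _ _ => chkDef_append) 80000 (rapp (chkDef 24 (appB tabs t48 0xffffff) 11 (slp 11)) (fun _ _ _ => chkDef_append) 60000 (rapp (chkDef 24 (appB tabs t48 0xffffff) 11 (slp 11)) (fun _ _ _ => chkDef_append) 40000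 c77 c78 rfl rfl) c79 rfl rfl) c80 rfl rfl) c81 rfl rfl) c82 rfl rfl) c83 rfl rfl) (allL_cons (rapp (chkDef 24 (appB tabs t48 0xffffff) 12 (slp 12)) (fun _ _ _ => chkDef_append) 122760 (rapp (chkDef 24 (appB tabs t48 0xffffff) 12 (slp 12)) (fun _ _ _ => chkDef_append) 120000 (rapp (chkDef 24 (appB tabs t48 0xffffff) 12 (slp 12)) (fun _ _ _ => chkDef_append) 100000 (rapp (chkDef 24 (appB tabs t48 0xffffff) 12 (slp 12)) (fun _ _ _ => chkDef_append) 80000 (rapp (chkDef 24 (appB tabs t48 0xffffff) 12 (slp 12)) (fun _ _ _ => chkDef_append) 60000 (rapp (chkDef 24 (appB tabs t48 0xffffff) 12 (slp 12)) (fun _ _ _ => chkDef_append) 40000 c84 c85 rfl rfl) c86 rfl rfl) c87 rfl rfl) c88 rfl rfl) c89 rfl rfl) c90 rfl rfl) (allL_cons (rapp (chkDef 24 (appB tabs t48 0xffffff) 13 (slp 13)) (fun _ _ _ => chkDef_append) 122760 (rapp (chkDef 24 (appB tabs t48 0xffffff) 13 (slp 13)) (fun _ _ _ => chkDef_append) 120000 (rapp (chkDef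 24 (appB tabs t48 0xffffff) 13 (slp 13)) (fun _ _ _ => chkDef_append) 100000 (rapp (chkDef 24 (appB tabs t48 0xffffff) 13 (slp 13)) (fun _ _ _ => chkDef_append) 80000 (rapp (chkDef 24 (appB tabs t48 0xffffff) 13 (slp 13)) (fun _ _ _ => chkDef_append) 60000 (rapp (chkDef 24 (appB tabs t48 0xffffff) 13 (slp 13)) (fun _ _ _ => chkDef_append) 40000 c91 c92 rfl rfl) c93 rfl rfl) c94 rfl rfl) c95 rfl rfl) c96 rfl rfl) c97 rfl rfl) (allL_cons (rapp (chkDef 24 (appB tabs t48 0xffffff) 14 (slp 14)) (fun _ _ _ => chkDef_append) 122760 (rapp (chkDef 24 (appB tabs t48 0xffffff) 14 (slp 14)) (fun _ _ _ => chkDef_append) 120000 (rapp (chkDef 24 (appB tabs t48 0xffffff) 14 (slp 14)) (fun _ _ _ => chkDef_append) 100000 (rapp (chkDef 24 (appB tabs t48 0xffffff) 14 (slp 14)) (fun _ _ _ => chkDef_append) 80000 (rapp (chkDef 24 (appB tabs t48 0xffffff) 14 (slp 14)) (fun _ _ _ => chkDef_append) 60000 (rapp (chkDef 24 (appB tabs t48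 0xffffff) 14 (slp 14)) (fun _ _ _ => chkDef_append) 40000 c98 c99 rfl rfl) c100 rfl rfl) c101 rfl rfl) c102 rfl rfl) c103 rfl rfl) c104 rfl rfl) (allL_cons (rapp (chkDef 24 (appB tabs t48 0xffffff) 15 (slp 15)) (fun _ _ _ => chkDef_append) 122760 (rapp (chkDef 24 (appB tabs t48 0xffffff) 15 (slp 15)) (fun _ _ _ => chkDef_append) 120000 (rapp (chkDef 24 (appB tabs t48 0xffffff) 15 (slp 15)) (fun _ _ _ => chkDef_append) 100000 (rapp (chkDef 24 (appB tabs t48 0xffffff) 15 (slp 15)) (fun _ _ _ => chkDef_append) 80000 (rapp (chkDef 24 (appB tabs t48 0xffffff) 15 (slp 15)) (fun _ _ _ => chkDef_append) 60000 (rapp (chkDef 24 (appB tabs t48 0xffffff) 15 (slp 15)) (fun _ _ _ => chkDef_append) 40000 c105 c106 rfl rfl) c107 rfl rfl) c108 rfl rfl) c109 rfl rfl) c110 rfl rfl) c111 rfl rfl) (allL_cons (rapp (chkDef 24 (appB tabs t48 0xffffff) 16 (slp 16)) (fun _ _ _ => chkDef_append) 122760 (rapp (chkDef 24 (appB tabs t48 0xffffff)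 16 (slp 16)) (fun _ _ _ => chkDef_append) 120000 (rapp (chkDef 24 (appB tabs t48 0xffffff) 16 (slp 16)) (fun _ _ _ => chkDef_append) 100000 (rapp (chkDef 24 (appB tabs t48 0xffffff) 16 (slp 16)) (fun _ _ _ => chkDef_append) 80000 (rapp (chkDef 24 (appB tabs t48 0xffffff) 16 (slp 16)) (fun _ _ _ => chkDef_append) 60000 (rapp (chkDef 24 (appB tabs t48 0xffffff) 16 (slp 16)) (fun _ _ _ => chkDef_append) 40000 c112 c113 rfl rfl) c114 rfl rfl) c115 rfl rfl) c116 rfl rfl) c117 rfl rfl) c118 rfl rfl) (allL_cons (rapp (chkDef 24 (appB tabs t48 0xffffff) 17 (slp 17)) (fun _ _ _ => chkDef_append) 122760 (rapp (chkDef 24 (appB tabs t48 0xffffff) 17 (slp 17)) (fun _ _ _ => chkDef_append) 120000 (rapp (chkDef 24 (appB tabs t48 0xffffff) 17 (slp 17)) (fun _ _ _ => chkDef_append) 100000 (rapp (chkDef 24 (appB tabs t48 0xffffff) 17 (slp 17)) (fun _ _ _ => chkDef_append) 80000 (rapp (chkDef 24 (appB tabs t48 0xffffff) 17 (slp 17))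 (fun _ _ _ => chkDef_append) 60000 (rapp (chkDef 24 (appB tabs t48 0xffffff) 17 (slp 17)) (fun _ _ _ => chkDef_append) 40000 c119 c120 rfl rfl) c121 rfl rfl) c122 rfl rfl) c123 rfl rfl) c124 rfl rfl) c125 rfl rfl) (allL_cons (rapp (chkDef 24 (appB tabs t48 0xffffff) 18 (slp 18)) (fun _ _ _ => chkDef_append) 122760 (rapp (chkDef 24 (appB tabs t48 0xffffff) 18 (slp 18)) (fun _ _ _ => chkDef_append) 120000 (rapp (chkDef 24 (appB tabs t48 0xffffff) 18 (slp 18)) (fun _ _ _ => chkDef_append) 100000 (rapp (chkDef 24 (appB tabs t48 0xffffff) 18 (slp 18)) (fun _ _ _ => chkDef_append) 80000 (rapp (chkDef 24 (appB tabs t48 0xffffff) 18 (slp 18)) (fun _ _ _ => chkDef_append) 60000 (rapp (chkDef 24 (appB tabs t48 0xffffff) 18 (slp 18)) (fun _ _ _ => chkDef_append) 40000 c126 c127 rfl rfl) c128 rfl rfl) c129 rfl rfl) c130 rfl rfl) c131 rfl rfl) c132 rfl rfl) (allL_cons (rapp (chkDef 24 (appB tabs t48 0xffffff) 19 (slp 19)) (fun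 _ _ _ => chkDef_append) 122760 (rapp (chkDef 24 (appB tabs t48 0xffffff) 19 (slp 19)) (fun _ _ _ => chkDef_append) 120000 (rapp (chkDef 24 (appB tabs t48 0xffffff) 19 (slp 19)) (fun _ _ _ => chkDef_append) 100000 (rapp (chkDef 24 (appB tabs t48 0xffffff) 19 (slp 19)) (fun _ _ _ => chkDef_append) 80000 (rapp (chkDef 24 (appB tabs t48 0xffffff) 19 (slp 19)) (fun _ _ _ => chkDef_append) 60000 (rapp (chkDef 24 (appB tabs t48 0xffffff) 19 (slp 19)) (fun _ _ _ => chkDef_append) 40000 c133 c134 rfl rfl) c135 rfl rfl) c136 rfl rfl) c137 rfl rfl) c138 rfl rfl) c139 rfl rfl) (allL_cons (rapp (chkDef 24 (appB tabs t48 0xffffff) 20 (slp 20)) (fun _ _ _ => chkDef_append) 122760 (rapp (chkDef 24 (appB tabs t48 0xffffff) 20 (slp 20)) (fun _ _ _ => chkDef_append) 120000 (rapp (chkDef 24 (appB tabs t48 0xffffff) 20 (slp 20)) (fun _ _ _ => chkDef_append) 100000 (rapp (chkDef 24 (appB tabs t48 0xffffff) 20 (slp 20)) (fun _ _ _ =>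 chkDef_append) 80000 (rapp (chkDef 24 (appB tabs t48 0xffffff) 20 (slp 20)) (fun _ _ _ => chkDef_append) 60000 (rapp (chkDef 24 (appB tabs t48 0xffffff) 20 (slp 20)) (fun _ _ _ => chkDef_append) 40000 c140 c141 rfl rfl) c142 rfl rfl) c143 rfl rfl) c144 rfl rfl) c145 rfl rfl) c146 rfl rfl) (allL_cons (rapp (chkDef 24 (appB tabs t48 0xffffff) 21 (slp 21)) (fun _ _ _ => chkDef_append) 122760 (rapp (chkDef 24 (appB tabs t48 0xffffff) 21 (slp 21)) (fun _ _ _ => chkDef_append) 120000 (rapp (chkDef 24 (appB tabs t48 0xffffff) 21 (slp 21)) (fun _ _ _ => chkDef_append) 100000 (rapp (chkDef 24 (appB tabs t48 0xffffff) 21 (slp 21)) (fun _ _ _ => chkDef_append) 80000 (rapp (chkDef 24 (appB tabs t48 0xffffff) 21 (slp 21)) (fun _ _ _ => chkDef_append) 60000 (rapp (chkDef 24 (appB tabs t48 0xffffff) 21 (slp 21)) (fun _ _ _ => chkDef_append) 40000 c147 c148 rfl rfl) c149 rfl rfl) c150 rfl rfl) c151 rfl rfl) c152 rfl rfl) c153 rfl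 rfl) (allL_cons (rapp (chkDef 24 (appB tabs t48 0xffffff) 22 (slp 22)) (fun _ _ _ => chkDef_append) 122760 (rapp (chkDef 24 (appB tabs t48 0xffffff) 22 (slp 22)) (fun _ _ _ => chkDef_append) 120000 (rapp (chkDef 24 (appB tabs t48 0xffffff) 22 (slp 22)) (fun _ _ _ => chkDef_append) 100000 (rapp (chkDef 24 (appB tabs t48 0xffffff) 22 (slp 22)) (fun _ _ _ => chkDef_append) 80000 (rapp (chkDef 24 (appB tabs t48 0xffffff) 22 (slp 22)) (fun _ _ _ => chkDef_append) 60000 (rapp (chkDef 24 (appB tabs t48 0xffffff) 22 (slp 22)) (fun _ _ _ => chkDef_append) 40000 c154 c155 rfl rfl) c156 rfl rfl) c157 rfl rfl) c158 rfl rfl) c159 rfl rfl) c160 rfl rfl) (allL_cons (rapp (chkDef 24 (appB tabs t48 0xffffff) 23 (slp 23)) (fun _ _ _ => chkDef_append) 122760 (rapp (chkDef 24 (appB tabs t48 0xffffff) 23 (slp 23)) (fun _ _ _ => chkDef_append) 120000 (rapp (chkDef 24 (appB tabs t48 0xffffff) 23 (slp 23)) (fun _ _ _ => chkDef_append)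 100000 (rapp (chkDef 24 (appB tabs t48 0xffffff) 23 (slp 23)) (fun _ _ _ => chkDef_append) 80000 (rapp (chkDef 24 (appB tabs t48 0xffffff) 23 (slp 23)) (fun _ _ _ => chkDef_append) 60000 (rapp (chkDef 24 (appB tabs t48 0xffffff) 23 (slp 23)) (fun _ _ _ => chkDef_append) 40000 c161 c162 rfl rfl) c163 rfl rfl) c164 rfl rfl) c165 rfl rfl) c166 rfl rfl) c167 rfl rfl) (allL_cons (rapp (chkDef 24 (appB tabs t48 0xffffff) 24 (slp 24)) (fun _ _ _ => chkDef_append) 122760 (rapp (chkDef 24 (appB tabs t48 0xffffff) 24 (slp 24)) (fun _ _ _ => chkDef_append) 120000 (rapp (chkDef 24 (appB tabs t48 0xffffff) 24 (slp 24)) (fun _ _ _ => chkDef_append) 100000 (rapp (chkDef 24 (appB tabs t48 0xffffff) 24 (slp 24)) (fun _ _ _ => chkDef_append) 80000 (rapp (chkDef 24 (appB tabs t48 0xffffff) 24 (slp 24)) (fun _ _ _ => chkDef_append) 60000 (rapp (chkDef 24 (appB tabs t48 0xffffff) 24 (slp 24)) (fun _ _ _ => chkDef_append) 40000 c168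 c169 rfl rfl) c170 rfl rfl) c171 rfl rfl) c172 rfl rfl) c173 rfl rfl) c174 rfl rfl) (allL_cons (rapp (chkDef 24 (appB tabs t48 0xffffff) 25 (slp 25)) (fun _ _ _ => chkDef_append) 122760 (rapp (chkDef 24 (appB tabs t48 0xffffff) 25 (slp 25)) (fun _ _ _ => chkDef_append) 120000 (rapp (chkDef 24 (appB tabs t48 0xffffff) 25 (slp 25)) (fun _ _ _ => chkDef_append) 100000 (rapp (chkDef 24 (appB tabs t48 0xffffff) 25 (slp 25)) (fun _ _ _ => chkDef_append) 80000 (rapp (chkDef 24 (appB tabs t48 0xffffff) 25 (slp 25)) (fun _ _ _ => chkDef_append) 60000 (rapp (chkDef 24 (appB tabs t48 0xffffff) 25 (slp 25)) (fun _ _ _ => chkDef_append) 40000 c175 c176 rfl rfl) c177 rfl rfl) c178 rfl rfl) c179 rfl rfl) c180 rfl rfl) c181 rfl rfl) (allL_cons (rapp (chkDef 24 (appB tabs t48 0xffffff) 26 (slp 26)) (fun _ _ _ => chkDef_append) 122760 (rapp (chkDef 24 (appB tabs t48 0xffffff) 26 (slp 26)) (fun _ _ _ => chkDef_append) 120000 (rapp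 (chkDef 24 (appB tabs t48 0xffffff) 26 (slp 26)) (fun _ _ _ => chkDef_append) 100000 (rapp (chkDef 24 (appB tabs t48 0xffffff) 26 (slp 26)) (fun _ _ _ => chkDef_append) 80000 (rapp (chkDef 24 (appB tabs t48 0xffffff) 26 (slp 26)) (fun _ _ _ => chkDef_append) 60000 (rapp (chkDef 24 (appB tabs t48 0xffffff) 26 (slp 26)) (fun _ _ _ => chkDef_append) 40000 c182 c183 rfl rfl) c184 rfl rfl) c185 rfl rfl) c186 rfl rfl) c187 rfl rfl) c188 rfl rfl) (allL_cons (rapp (chkDef 24 (appB tabs t48 0xffffff) 27 (slp 27)) (fun _ _ _ => chkDef_append) 122760 (rapp (chkDef 24 (appB tabs t48 0xffffff) 27 (slp 27)) (fun _ _ _ => chkDef_append) 120000 (rapp (chkDef 24 (appB tabs t48 0xffffff) 27 (slp 27)) (fun _ _ _ => chkDef_append) 100000 (rapp (chkDef 24 (appB tabs t48 0xffffff) 27 (slp 27)) (fun _ _ _ => chkDef_append) 80000 (rapp (chkDef 24 (appB tabs t48 0xffffff) 27 (slp 27)) (fun _ _ _ => chkDef_append) 60000 (rapp (chkDef 24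 (appB tabs t48 0xffffff) 27 (slp 27)) (fun _ _ _ => chkDef_append) 40000 c189 c190 rfl rfl) c191 rfl rfl) c192 rfl rfl) c193 rfl rfl) c194 rfl rfl) c195 rfl rfl) (allL_cons (rapp (chkDef 24 (appB tabs t48 0xffffff) 28 (slp 28)) (fun _ _ _ => chkDef_append) 122760 (rapp (chkDef 24 (appB tabs t48 0xffffff) 28 (slp 28)) (fun _ _ _ => chkDef_append) 120000 (rapp (chkDef 24 (appB tabs t48 0xffffff) 28 (slp 28)) (fun _ _ _ => chkDef_append) 100000 (rapp (chkDef 24 (appB tabs t48 0xffffff) 28 (slp 28)) (fun _ _ _ => chkDef_append) 80000 (rapp (chkDef 24 (appB tabs t48 0xffffff) 28 (slp 28)) (fun _ _ _ => chkDef_append) 60000 (rapp (chkDef 24 (appB tabs t48 0xffffff) 28 (slp 28)) (fun _ _ _ => chkDef_append) 40000 c196 c197 rfl rfl) c198 rfl rfl) c199 rfl rfl) c200 rfl rfl) c201 rfl rfl) c202 rfl rfl) (allL_cons (rapp (chkDef 24 (appB tabs t48 0xffffff) 29 (slp 29)) (fun _ _ _ => chkDef_append) 122760 (rapp (chkDef 24 (appB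 tabs t48 0xffffff) 29 (slp 29)) (fun _ _ _ => chkDef_append) 120000 (rapp (chkDef 24 (appB tabs t48 0xffffff) 29 (slp 29)) (fun _ _ _ => chkDef_append) 100000 (rapp (chkDef 24 (appB tabs t48 0xffffff) 29 (slp 29)) (fun _ _ _ => chkDef_append) 80000 (rapp (chkDef 24 (appB tabs t48 0xffffff) 29 (slp 29)) (fun _ _ _ => chkDef_append) 60000 (rapp (chkDef 24 (appB tabs t48 0xffffff) 29 (slp 29)) (fun _ _ _ => chkDef_append) 40000 c203 c204 rfl rfl) c205 rfl rfl) c206 rfl rfl) c207 rfl rfl) c208 rfl rfl) c209 rfl rfl) (allL_cons (rapp (chkDef 24 (appB tabs t48 0xffffff) 30 (slp 30)) (fun _ _ _ => chkDef_append) 122760 (rapp (chkDef 24 (appB tabs t48 0xffffff) 30 (slp 30)) (fun _ _ _ => chkDef_append) 120000 (rapp (chkDef 24 (appB tabs t48 0xffffff) 30 (slp 30)) (fun _ _ _ => chkDef_append) 100000 (rapp (chkDef 24 (appB tabs t48 0xffffff) 30 (slp 30)) (fun _ _ _ => chkDef_append) 80000 (rapp (chkDef 24 (appB tabs t48 0xffffff)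 30 (slp 30)) (fun _ _ _ => chkDef_append) 60000 (rapp (chkDef 24 (appB tabs t48 0xffffff) 30 (slp 30)) (fun _ _ _ => chkDef_append) 40000 c210 c211 rfl rfl) c212 rfl rfl) c213 rfl rfl) c214 rfl rfl) c215 rfl rfl) c216 rfl rfl) (allL_cons (rapp (chkDef 24 (appB tabs t48 0xffffff) 31 (slp 31)) (fun _ _ _ => chkDef_append) 122760 (rapp (chkDef 24 (appB tabs t48 0xffffff) 31 (slp 31)) (fun _ _ _ => chkDef_append) 120000 (rapp (chkDef 24 (appB tabs t48 0xffffff) 31 (slp 31)) (fun _ _ _ => chkDef_append) 100000 (rapp (chkDef 24 (appB tabs t48 0xffffff) 31 (slp 31)) (fun _ _ _ => chkDef_append) 80000 (rapp (chkDef 24 (appB tabs t48 0xffffff) 31 (slp 31)) (fun _ _ _ => chkDef_append) 60000 (rapp (chkDef 24 (appB tabs t48 0xffffff) 31 (slp 31)) (fun _ _ _ => chkDef_append) 40000 c217 c218 rfl rfl) c219 rfl rfl) c220 rfl rfl) c221 rfl rfl) c222 rfl rfl) c223 rfl rfl) (allL_cons (rapp (chkDef 24 (appB tabs t48 0xffffff) 32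 (slp 32)) (fun _ _ _ => chkDef_append) 122760 (rapp (chkDef 24 (appB tabs t48 0xffffff) 32 (slp 32)) (fun _ _ _ => chkDef_append) 120000 (rapp (chkDef 24 (appB tabs t48 0xffffff) 32 (slp 32)) (fun _ _ _ => chkDef_append) 100000 (rapp (chkDef 24 (appB tabs t48 0xffffff) 32 (slp 32)) (fun _ _ _ => chkDef_append) 80000 (rapp (chkDef 24 (appB tabs t48 0xffffff) 32 (slp 32)) (fun _ _ _ => chkDef_append) 60000 (rapp (chkDef 24 (appB tabs t48 0xffffff) 32 (slp 32)) (fun _ _ _ => chkDef_append) 40000 c224 c225 rfl rfl) c226 rfl rfl) c227 rfl rfl) c228 rfl rfl) c229 rfl rfl) c230 rfl rfl) (allL_cons (rapp (chkDef 24 (appB tabs t48 0xffffff) 33 (slp 33)) (fun _ _ _ => chkDef_append) 122760 (rapp (chkDef 24 (appB tabs t48 0xffffff) 33 (slp 33)) (fun _ _ _ => chkDef_append) 120000 (rapp (chkDef 24 (appB tabs t48 0xffffff) 33 (slp 33)) (fun _ _ _ => chkDef_append) 100000 (rapp (chkDef 24 (appB tabs t48 0xffffff) 33 (slp 33))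 (fun _ _ _ => chkDef_append) 80000 (rapp (chkDef 24 (appB tabs t48 0xffffff) 33 (slp 33)) (fun _ _ _ => chkDef_append) 60000 (rapp (chkDef 24 (appB tabs t48 0xffffff) 33 (slp 33)) (fun _ _ _ => chkDef_append) 40000 c231 c232 rfl rfl) c233 rfl rfl) c234 rfl rfl) c235 rfl rfl) c236 rfl rfl) c237 rfl rfl) (allL_cons (rapp (chkDef 24 (appB tabs t48 0xffffff) 34 (slp 34)) (fun _ _ _ => chkDef_append) 122760 (rapp (chkDef 24 (appB tabs t48 0xffffff) 34 (slp 34)) (fun _ _ _ => chkDef_append) 120000 (rapp (chkDef 24 (appB tabs t48 0xffffff) 34 (slp 34)) (fun _ _ _ => chkDef_append) 100000 (rapp (chkDef 24 (appB tabs t48 0xffffff) 34 (slp 34)) (fun _ _ _ => chkDef_append) 80000 (rapp (chkDef 24 (appB tabs t48 0xffffff) 34 (slp 34)) (fun _ _ _ => chkDef_append) 60000 (rapp (chkDef 24 (appB tabs t48 0xffffff) 34 (slp 34)) (fun _ _ _ => chkDef_append) 40000 c238 c239 rfl rfl) c240 rfl rfl) c241 rfl rfl) c242 rfl rfl) c243 rfl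 rfl) c244 rfl rfl) (allL_cons (rapp (chkDef 24 (appB tabs t48 0xffffff) 35 (slp 35)) (fun _ _ _ => chkDef_append) 122760 (rapp (chkDef 24 (appB tabs t48 0xffffff) 35 (slp 35)) (fun _ _ _ => chkDef_append) 120000 (rapp (chkDef 24 (appB tabs t48 0xffffff) 35 (slp 35)) (fun _ _ _ => chkDef_append) 100000 (rapp (chkDef 24 (appB tabs t48 0xffffff) 35 (slp 35)) (fun _ _ _ => chkDef_append) 80000 (rapp (chkDef 24 (appB tabs t48 0xffffff) 35 (slp 35)) (fun _ _ _ => chkDef_append) 60000 (rapp (chkDef 24 (appB tabs t48 0xffffff) 35 (slp 35)) (fun _ _ _ => chkDef_append) 40000 c245 c246 rfl rfl) c247 rfl rfl) c248 rfl rfl) c249 rfl rfl) c250 rfl rfl) c251 rfl rfl) (allL_cons (rapp (chkDef 24 (appB tabs t48 0xffffff) 36 (slp 36)) (fun _ _ _ => chkDef_append) 122760 (rapp (chkDef 24 (appB tabs t48 0xffffff) 36 (slp 36)) (fun _ _ _ => chkDef_append) 120000 (rapp (chkDef 24 (appB tabs t48 0xffffff) 36 (slp 36)) (fun _ _ _ => chkDef_append)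 100000 (rapp (chkDef 24 (appB tabs t48 0xffffff) 36 (slp 36)) (fun _ _ _ => chkDef_append) 80000 (rapp (chkDef 24 (appB tabs t48 0xffffff) 36 (slp 36)) (fun _ _ _ => chkDef_append) 60000 (rapp (chkDef 24 (appB tabs t48 0xffffff) 36 (slp 36)) (fun _ _ _ => chkDef_append) 40000 c252 c253 rfl rfl) c254 rfl rfl) c255 rfl rfl) c256 rfl rfl) c257 rfl rfl) c258 rfl rfl) (allL_cons (rapp (chkDef 24 (appB tabs t48 0xffffff) 37 (slp 37)) (fun _ _ _ => chkDef_append) 122760 (rapp (chkDef 24 (appB tabs t48 0xffffff) 37 (slp 37)) (fun _ _ _ => chkDef_append) 120000 (rapp (chkDef 24 (appB tabs t48 0xffffff) 37 (slp 37)) (fun _ _ _ => chkDef_append) 100000 (rapp (chkDef 24 (appB tabs t48 0xffffff) 37 (slp 37)) (fun _ _ _ => chkDef_append) 80000 (rapp (chkDef 24 (appB tabs t48 0xffffff) 37 (slp 37)) (fun _ _ _ => chkDef_append) 60000 (rapp (chkDef 24 (appB tabs t48 0xffffff) 37 (slp 37)) (fun _ _ _ => chkDef_append) 40000 c259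 c260 rfl rfl) c261 rfl rfl) c262 rfl rfl) c263 rfl rfl) c264 rfl rfl) c265 rfl rfl) (allL_cons (rapp (chkDef 24 (appB tabs t48 0xffffff) 38 (slp 38)) (fun _ _ _ => chkDef_append) 122760 (rapp (chkDef 24 (appB tabs t48 0xffffff) 38 (slp 38)) (fun _ _ _ => chkDef_append) 120000 (rapp (chkDef 24 (appB tabs t48 0xffffff) 38 (slp 38)) (fun _ _ _ => chkDef_append) 100000 (rapp (chkDef 24 (appB tabs t48 0xffffff) 38 (slp 38)) (fun _ _ _ => chkDef_append) 80000 (rapp (chkDef 24 (appB tabs t48 0xffffff) 38 (slp 38)) (fun _ _ _ => chkDef_append) 60000 (rapp (chkDef 24 (appB tabs t48 0xffffff) 38 (slp 38)) (fun _ _ _ => chkDef_append) 40000 c266 c267 rfl rfl) c268 rfl rfl) c269 rfl rfl) c270 rfl rfl) c271 rfl rfl) c272 rfl rfl) (allL_cons (rapp (chkDef 24 (appB tabs t48 0xffffff) 39 (slp 39)) (fun _ _ _ => chkDef_append) 122760 (rapp (chkDef 24 (appB tabs t48 0xffffff) 39 (slp 39)) (fun _ _ _ => chkDef_append) 120000 (rapp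 (chkDef 24 (appB tabs t48 0xffffff) 39 (slp 39)) (fun _ _ _ => chkDef_append) 100000 (rapp (chkDef 24 (appB tabs t48 0xffffff) 39 (slp 39)) (fun _ _ _ => chkDef_append) 80000 (rapp (chkDef 24 (appB tabs t48 0xffffff) 39 (slp 39)) (fun _ _ _ => chkDef_append) 60000 (rapp (chkDef 24 (appB tabs t48 0xffffff) 39 (slp 39)) (fun _ _ _ => chkDef_append) 40000 c273 c274 rfl rfl) c275 rfl rfl) c276 rfl rfl) c277 rfl rfl) c278 rfl rfl) c279 rfl rfl) (allL_cons (rapp (chkDef 24 (appB tabs t48 0xffffff) 40 (slp 40)) (fun _ _ _ => chkDef_append) 122760 (rapp (chkDef 24 (appB tabs t48 0xffffff) 40 (slp 40)) (fun _ _ _ => chkDef_append) 120000 (rapp (chkDef 24 (appB tabs t48 0xffffff) 40 (slp 40)) (fun _ _ _ => chkDef_append) 100000 (rapp (chkDef 24 (appB tabs t48 0xffffff) 40 (slp 40)) (fun _ _ _ => chkDef_append) 80000 (rapp (chkDef 24 (appB tabs t48 0xffffff) 40 (slp 40)) (fun _ _ _ => chkDef_append) 60000 (rapp (chkDef 24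 (appB tabs t48 0xffffff) 40 (slp 40)) (fun _ _ _ => chkDef_append) 40000 c280 c281 rfl rfl) c282 rfl rfl) c283 rfl rfl) c284 rfl rfl) c285 rfl rfl) c286 rfl rfl) (allL_cons (rapp (chkDef 24 (appB tabs t48 0xffffff) 41 (slp 41)) (fun _ _ _ => chkDef_append) 122760 (rapp (chkDef 24 (appB tabs t48 0xffffff) 41 (slp 41)) (fun _ _ _ => chkDef_append) 120000 (rapp (chkDef 24 (appB tabs t48 0xffffff) 41 (slp 41)) (fun _ _ _ => chkDef_append) 100000 (rapp (chkDef 24 (appB tabs t48 0xffffff) 41 (slp 41)) (fun _ _ _ => chkDef_append) 80000 (rapp (chkDef 24 (appB tabs t48 0xffffff) 41 (slp 41)) (fun _ _ _ => chkDef_append) 60000 (rapp (chkDef 24 (appB tabs t48 0xffffff) 41 (slp 41)) (fun _ _ _ => chkDef_append) 40000 c287 c288 rfl rfl) c289 rfl rfl) c290 rfl rfl) c291 rfl rfl) c292 rfl rfl) c293 rfl rfl) (allL_cons (rapp (chkDef 24 (appB tabs t48 0xffffff) 42 (slp 42)) (fun _ _ _ => chkDef_append) 122760 (rapp (chkDef 24 (appB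 tabs t48 0xffffff) 42 (slp 42)) (fun _ _ _ => chkDef_append) 120000 (rapp (chkDef 24 (appB tabs t48 0xffffff) 42 (slp 42)) (fun _ _ _ => chkDef_append) 100000 (rapp (chkDef 24 (appB tabs t48 0xffffff) 42 (slp 42)) (fun _ _ _ => chkDef_append) 80000 (rapp (chkDef 24 (appB tabs t48 0xffffff) 42 (slp 42)) (fun _ _ _ => chkDef_append) 60000 (rapp (chkDef 24 (appB tabs t48 0xffffff) 42 (slp 42)) (fun _ _ _ => chkDef_append) 40000 c294 c295 rfl rfl) c296 rfl rfl) c297 rfl rfl) c298 rfl rfl) c299 rfl rfl) c300 rfl rfl) (allL_cons (rapp (chkDef 24 (appB tabs t48 0xffffff) 43 (slp 43)) (fun _ _ _ => chkDef_append) 122760 (rapp (chkDef 24 (appB tabs t48 0xffffff) 43 (slp 43)) (fun _ _ _ => chkDef_append) 120000 (rapp (chkDef 24 (appB tabs t48 0xffffff) 43 (slp 43)) (fun _ _ _ => chkDef_append) 100000 (rapp (chkDef 24 (appB tabs t48 0xffffff) 43 (slp 43)) (fun _ _ _ => chkDef_append) 80000 (rapp (chkDef 24 (appB tabs t48 0xffffff)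 43 (slp 43)) (fun _ _ _ => chkDef_append) 60000 (rapp (chkDef 24 (appB tabs t48 0xffffff) 43 (slp 43)) (fun _ _ _ => chkDef_append) 40000 c301 c302 rfl rfl) c303 rfl rfl) c304 rfl rfl) c305 rfl rfl) c306 rfl rfl) c307 rfl rfl) (allL_cons (rapp (chkDef 24 (appB tabs t48 0xffffff) 44 (slp 44)) (fun _ _ _ => chkDef_append) 122760 (rapp (chkDef 24 (appB tabs t48 0xffffff) 44 (slp 44)) (fun _ _ _ => chkDef_append) 120000 (rapp (chkDef 24 (appB tabs t48 0xffffff) 44 (slp 44)) (fun _ _ _ => chkDef_append) 100000 (rapp (chkDef 24 (appB tabs t48 0xffffff) 44 (slp 44)) (fun _ _ _ => chkDef_append) 80000 (rapp (chkDef 24 (appB tabs t48 0xffffff) 44 (slp 44)) (fun _ _ _ => chkDef_append) 60000 (rapp (chkDef 24 (appB tabs t48 0xffffff) 44 (slp 44)) (fun _ _ _ => chkDef_append) 40000 c308 c309 rfl rfl) c310 rfl rfl) c311 rfl rfl) c312 rfl rfl) c313 rfl rfl) c314 rfl rfl) (allL_cons (rapp (chkDef 24 (appB tabs t48 0xffffff) 45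 (slp 45)) (fun _ _ _ => chkDef_append) 122760 (rapp (chkDef 24 (appB tabs t48 0xffffff) 45 (slp 45)) (fun _ _ _ => chkDef_append) 120000 (rapp (chkDef 24 (appB tabs t48 0xffffff) 45 (slp 45)) (fun _ _ _ => chkDef_append) 100000 (rapp (chkDef 24 (appB tabs t48 0xffffff) 45 (slp 45)) (fun _ _ _ => chkDef_append) 80000 (rapp (chkDef 24 (appB tabs t48 0xffffff) 45 (slp 45)) (fun _ _ _ => chkDef_append) 60000 (rapp (chkDef 24 (appB tabs t48 0xffffff) 45 (slp 45)) (fun _ _ _ => chkDef_append) 40000 c315 c316 rfl rfl) c317 rfl rfl) c318 rfl rfl) c319 rfl rfl) c320 rfl rfl) c321 rfl rfl) (allL_cons (rapp (chkDef 24 (appB tabs t48 0xffffff) 46 (slp 46)) (fun _ _ _ => chkDef_append) 122760 (rapp (chkDef 24 (appB tabs t48 0xffffff) 46 (slp 46)) (fun _ _ _ => chkDef_append) 120000 (rapp (chkDef 24 (appB tabs t48 0xffffff) 46 (slp 46)) (fun _ _ _ => chkDef_append) 100000 (rapp (chkDef 24 (appB tabs t48 0xffffff) 46 (slp 46))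 (fun _ _ _ => chkDef_append) 80000 (rapp (chkDef 24 (appB tabs t48 0xffffff) 46 (slp 46)) (fun _ _ _ => chkDef_append) 60000 (rapp (chkDef 24 (appB tabs t48 0xffffff) 46 (slp 46)) (fun _ _ _ => chkDef_append) 40000 c322 c323 rfl rfl) c324 rfl rfl) c325 rfl rfl) c326 rfl rfl) c327 rfl rfl) c328 rfl rfl) (allL_cons (rapp (chkDef 24 (appB tabs t48 0xffffff) 47 (slp 47)) (fun _ _ _ => chkDef_append) 122760 (rapp (chkDef 24 (appB tabs t48 0xffffff) 47 (slp 47)) (fun _ _ _ => chkDef_append) 120000 (rapp (chkDef 24 (appB tabs t48 0xffffff) 47 (slp 47)) (fun _ _ _ => chkDef_append) 100000 (rapp (chkDef 24 (appB tabs t48 0xffffff) 47 (slp 47)) (fun _ _ _ => chkDef_append) 80000 (rapp (chkDef 24 (appB tabs t48 0xffffff) 47 (slp 47)) (fun _ _ _ => chkDef_append) 60000 (rapp (chkDef 24 (appB tabs t48 0xffffff) 47 (slp 47)) (fun _ _ _ => chkDef_append) 40000 c329 c330 rfl rfl) c331 rfl rfl) c332 rfl rfl) c333 rfl rfl) c334 rfl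 rfl) c335 rfl rfl) (allL_nil _)))))))))))))))))))))))))))))))))))))))))
  lt := by decide +kernel
  triv := appB_triv (by decide +kernel)
  trivk := (rapp (chkDef 24 (appB tabs t48 0xffffff) 48 (false, [])) (fun _ _ _ => chkDef_append) 122760 (rapp (chkDef 24 (appB tabs t48 0xffffff) 48 (false, [])) (fun _ _ _ => chkDef_append) 120000 (rapp (chkDef 24 (appB tabs t48 0xffffff) 48 (false, [])) (fun _ _ _ => chkDef_append) 100000 (rapp (chkDef 24 (appB tabs t48 0xffffff) 48 (false, [])) (fun _ _ _ => chkDef_append) 80000 (rapp (chkDef 24 (appB tabs t48 0xffffff) 48 (false, [])) (fun _ _ _ => chkDef_append) 60000 (rapp (chkDef 24 (appB tabs t48 0xffffff) 48 (false, [])) (fun _ _ _ => chkDef_append) 40000 c336 c337 rfl rfl) c338 rfl rfl) c339 rfl rfl) c340 rfl rfl) c341 rfl rfl) c342 rfl rfl)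

/-- The group generated by the basic tables. -/
noncomputable abbrev PG : Subgroup (Equiv.Perm (Fin 122760)) := tabGroup 122760 24 app 8

noncomputable def act : Act PG (Fin 122760) := tabOK.act

theorem chain : ChainOK act mc [] :=
  chainOK_of_chk act mc [] (by simp) (okc_of_okcb c354) c355
  (allL_cons (rapp (mc0.chk (appB tabs t48 0xffffff)) (fun _ _ _ => Lvl.chk_append) 122759 (rapp (mc0.chk (appB tabs t48 0xffffff)) (fun _ _ _ => Lvl.chk_append) 120000 (rapp (mc0.chk (appB tabs t48 0xffffff)) (fun _ _ _ => Lvl.chk_append) 100000 (rapp (mc0.chk (appB tabs t48 0xffffff)) (fun _ _ _ => Lvl.chk_append) 80000 (rapp (mc0.chk (appB tabs t48 0xffffff)) (fun _ _ _ => Lvl.chk_append) 60000 (rapp (mc0.chk (appB tabs t48 0xffffff)) (fun _ _ _ => Lvl.chk_append) 40000 c343 c344 rfl rfl) c345 rfl rfl) c346 rfl rfl) c347 rfl rfl) c348 rfl rfl) c349 rfl rfl) (allL_cons (rapp (mc1.chk (appB tabs t48 0xffffff)) (fun _ _ _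 => Lvl.chk_append) 52135 (rapp (mc1.chk (appB tabs t48 0xffffff)) (fun _ _ _ => Lvl.chk_append) 40000 c350 c351 rfl rfl) c352 rfl rfl) (allL_cons c353 (allL_nil _))))

theorem rels : ∀ v ∈ tcR, ev act.gen v = 1 :=
  tabOK.rels (allL_cons (rapp (oneAll 24 (appB tabs t48 0xffffff) [0,1]) (fun _ _ _ => oneAll_append) 122760 (rapp (oneAll 24 (appB tabs t48 0xffffff) [0,1]) (fun _ _ _ => oneAll_append) 120000 (rapp (oneAll 24 (appB tabs t48 0xffffff) [0,1]) (fun _ _ _ => oneAll_append) 100000 (rapp (oneAll 24 (appB tabs t48 0xffffff) [0,1]) (fun _ _ _ => oneAll_append) 80000 (rapp (oneAll 24 (appB tabs t48 0xffffff) [0,1]) (fun _ _ _ => oneAll_append) 60000 (rapp (oneAll 24 (appB tabs t48 0xffffff) [0,1]) (fun _ _ _ => oneAll_append) 40000 c356 c357 rfl rfl) c358 rfl rfl) c359 rfl rfl) c360 rfl rfl) c361 rfl rfl) c362 rfl rfl) (allL_cons (rapp (oneAll 24 (appB tabs t48 0xffffff) [2,2]) (fun _ _ _ => oneAll_append) 122760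 (rapp (oneAll 24 (appB tabs t48 0xffffff) [2,2]) (fun _ _ _ => oneAll_append) 120000 (rapp (oneAll 24 (appB tabs t48 0xffffff) [2,2]) (fun _ _ _ => oneAll_append) 100000 (rapp (oneAll 24 (appB tabs t48 0xffffff) [2,2]) (fun _ _ _ => oneAll_append) 80000 (rapp (oneAll 24 (appB tabs t48 0xffffff) [2,2]) (fun _ _ _ => oneAll_append) 60000 (rapp (oneAll 24 (appB tabs t48 0xffffff) [2,2]) (fun _ _ _ => oneAll_append) 40000 c363 c364 rfl rfl) c365 rfl rfl) c366 rfl rfl) c367 rfl rfl) c368 rfl rfl) c369 rfl rfl) (allL_cons (rapp (oneAll 24 (appB tabs t48 0xffffff) [3,3]) (fun _ _ _ => oneAll_append) 122760 (rapp (oneAll 24 (appB tabs t48 0xffffff) [3,3]) (fun _ _ _ => oneAll_append) 120000 (rapp (oneAll 24 (appB tabs t48 0xffffff) [3,3]) (fun _ _ _ => oneAll_append) 100000 (rapp (oneAll 24 (appB tabs t48 0xffffff) [3,3]) (fun _ _ _ => oneAll_append) 80000 (rapp (oneAll 24 (appB tabs t48 0xffffff) [3,3]) (fun _ _ _ => oneAll_append)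 60000 (rapp (oneAll 24 (appB tabs t48 0xffffff) [3,3]) (fun _ _ _ => oneAll_append) 40000 c370 c371 rfl rfl) c372 rfl rfl) c373 rfl rfl) c374 rfl rfl) c375 rfl rfl) c376 rfl rfl) (allL_cons (rapp (oneAll 24 (appB tabs t48 0xffffff) [4,4]) (fun _ _ _ => oneAll_append) 122760 (rapp (oneAll 24 (appB tabs t48 0xffffff) [4,4]) (fun _ _ _ => oneAll_append) 120000 (rapp (oneAll 24 (appB tabs t48 0xffffff) [4,4]) (fun _ _ _ => oneAll_append) 100000 (rapp (oneAll 24 (appB tabs t48 0xffffff) [4,4]) (fun _ _ _ => oneAll_append) 80000 (rapp (oneAll 24 (appB tabs t48 0xffffff) [4,4]) (fun _ _ _ => oneAll_append) 60000 (rapp (oneAll 24 (appB tabs t48 0xffffff) [4,4]) (fun _ _ _ => oneAll_append) 40000 c377 c378 rfl rfl) c379 rfl rfl) c380 rfl rfl) c381 rfl rfl) c382 rfl rfl) c383 rfl rfl) (allL_cons (rapp (oneAll 24 (appB tabs t48 0xffffff) [5,5]) (fun _ _ _ => oneAll_append) 122760 (rapp (oneAll 24 (appB tabs t48 0xffffff) [5,5])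 (fun _ _ _ => oneAll_append) 120000 (rapp (oneAll 24 (appB tabs t48 0xffffff) [5,5]) (fun _ _ _ => oneAll_append) 100000 (rapp (oneAll 24 (appB tabs t48 0xffffff) [5,5]) (fun _ _ _ => oneAll_append) 80000 (rapp (oneAll 24 (appB tabs t48 0xffffff) [5,5]) (fun _ _ _ => oneAll_append) 60000 (rapp (oneAll 24 (appB tabs t48 0xffffff) [5,5]) (fun _ _ _ => oneAll_append) 40000 c384 c385 rfl rfl) c386 rfl rfl) c387 rfl rfl) c388 rfl rfl) c389 rfl rfl) c390 rfl rfl) (allL_cons (rapp (oneAll 24 (appB tabs t48 0xffffff) [6,6]) (fun _ _ _ => oneAll_append) 122760 (rapp (oneAll 24 (appB tabs t48 0xffffff) [6,6]) (fun _ _ _ => oneAll_append) 120000 (rapp (oneAll 24 (appB tabs t48 0xffffff) [6,6]) (fun _ _ _ => oneAll_append) 100000 (rapp (oneAll 24 (appB tabs t48 0xffffff) [6,6]) (fun _ _ _ => oneAll_append) 80000 (rapp (oneAll 24 (appB tabs t48 0xffffff) [6,6]) (fun _ _ _ => oneAll_append) 60000 (rapp (oneAll 24 (appB tabs t48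 0xffffff) [6,6]) (fun _ _ _ => oneAll_append) 40000 c391 c392 rfl rfl) c393 rfl rfl) c394 rfl rfl) c395 rfl rfl) c396 rfl rfl) c397 rfl rfl) (allL_cons (rapp (oneAll 24 (appB tabs t48 0xffffff) [7,7]) (fun _ _ _ => oneAll_append) 122760 (rapp (oneAll 24 (appB tabs t48 0xffffff) [7,7]) (fun _ _ _ => oneAll_append) 120000 (rapp (oneAll 24 (appB tabs t48 0xffffff) [7,7]) (fun _ _ _ => oneAll_append) 100000 (rapp (oneAll 24 (appB tabs t48 0xffffff) [7,7]) (fun _ _ _ => oneAll_append) 80000 (rapp (oneAll 24 (appB tabs t48 0xffffff) [7,7]) (fun _ _ _ => oneAll_append) 60000 (rapp (oneAll 24 (appB tabs t48 0xffffff) [7,7]) (fun _ _ _ => oneAll_append) 40000 c398 c399 rfl rfl) c400 rfl rfl) c401 rfl rfl) c402 rfl rfl) c403 rfl rfl) c404 rfl rfl) (allL_cons (rapp (oneAll 24 (appB tabs t48 0xffffff) [2,3,2,3,2,3]) (fun _ _ _ => oneAll_append) 122760 (rapp (oneAll 24 (appB tabs t48 0xffffff) [2,3,2,3,2,3]) (fun _ _ _ => oneAll_append)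 120000 (rapp (oneAll 24 (appB tabs t48 0xffffff) [2,3,2,3,2,3]) (fun _ _ _ => oneAll_append) 100000 (rapp (oneAll 24 (appB tabs t48 0xffffff) [2,3,2,3,2,3]) (fun _ _ _ => oneAll_append) 80000 (rapp (oneAll 24 (appB tabs t48 0xffffff) [2,3,2,3,2,3]) (fun _ _ _ => oneAll_append) 60000 (rapp (oneAll 24 (appB tabs t48 0xffffff) [2,3,2,3,2,3]) (fun _ _ _ => oneAll_append) 40000 c405 c406 rfl rfl) c407 rfl rfl) c408 rfl rfl) c409 rfl rfl) c410 rfl rfl) c411 rfl rfl) (allL_cons (rapp (oneAll 24 (appB tabs t48 0xffffff) [2,4,2,4]) (fun _ _ _ => oneAll_append) 122760 (rapp (oneAll 24 (appB tabs t48 0xffffff) [2,4,2,4]) (fun _ _ _ => oneAll_append) 120000 (rapp (oneAll 24 (appB tabs t48 0xffffff) [2,4,2,4]) (fun _ _ _ => oneAll_append) 100000 (rapp (oneAll 24 (appB tabs t48 0xffffff) [2,4,2,4]) (fun _ _ _ => oneAll_append) 80000 (rapp (oneAll 24 (appB tabs t48 0xffffff) [2,4,2,4]) (fun _ _ _ => oneAll_append) 60000 (rapp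 (oneAll 24 (appB tabs t48 0xffffff) [2,4,2,4]) (fun _ _ _ => oneAll_append) 40000 c412 c413 rfl rfl) c414 rfl rfl) c415 rfl rfl) c416 rfl rfl) c417 rfl rfl) c418 rfl rfl) (allL_cons (rapp (oneAll 24 (appB tabs t48 0xffffff) [2,5,2,5]) (fun _ _ _ => oneAll_append) 122760 (rapp (oneAll 24 (appB tabs t48 0xffffff) [2,5,2,5]) (fun _ _ _ => oneAll_append) 120000 (rapp (oneAll 24 (appB tabs t48 0xffffff) [2,5,2,5]) (fun _ _ _ => oneAll_append) 100000 (rapp (oneAll 24 (appB tabs t48 0xffffff) [2,5,2,5]) (fun _ _ _ => oneAll_append) 80000 (rapp (oneAll 24 (appB tabs t48 0xffffff) [2,5,2,5]) (fun _ _ _ => oneAll_append) 60000 (rapp (oneAll 24 (appB tabs t48 0xffffff) [2,5,2,5]) (fun _ _ _ => oneAll_append) 40000 c419 c420 rfl rfl) c421 rfl rfl) c422 rfl rfl) c423 rfl rfl) c424 rfl rfl) c425 rfl rfl) (allL_cons (rapp (oneAll 24 (appB tabs t48 0xffffff) [2,6,2,6]) (fun _ _ _ => oneAll_append) 122760 (rapp (oneAll 24 (appB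 tabs t48 0xffffff) [2,6,2,6]) (fun _ _ _ => oneAll_append) 120000 (rapp (oneAll 24 (appB tabs t48 0xffffff) [2,6,2,6]) (fun _ _ _ => oneAll_append) 100000 (rapp (oneAll 24 (appB tabs t48 0xffffff) [2,6,2,6]) (fun _ _ _ => oneAll_append) 80000 (rapp (oneAll 24 (appB tabs t48 0xffffff) [2,6,2,6]) (fun _ _ _ => oneAll_append) 60000 (rapp (oneAll 24 (appB tabs t48 0xffffff) [2,6,2,6]) (fun _ _ _ => oneAll_append) 40000 c426 c427 rfl rfl) c428 rfl rfl) c429 rfl rfl) c430 rfl rfl) c431 rfl rfl) c432 rfl rfl) (allL_cons (rapp (oneAll 24 (appB tabs t48 0xffffff) [2,7,2,7]) (fun _ _ _ => oneAll_append) 122760 (rapp (oneAll 24 (appB tabs t48 0xffffff) [2,7,2,7]) (fun _ _ _ => oneAll_append) 120000 (rapp (oneAll 24 (appB tabs t48 0xffffff) [2,7,2,7]) (fun _ _ _ => oneAll_append) 100000 (rapp (oneAll 24 (appB tabs t48 0xffffff) [2,7,2,7]) (fun _ _ _ => oneAll_append) 80000 (rapp (oneAll 24 (appB tabs t48 0xffffff) [2,7,2,7])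 (fun _ _ _ => oneAll_append) 60000 (rapp (oneAll 24 (appB tabs t48 0xffffff) [2,7,2,7]) (fun _ _ _ => oneAll_append) 40000 c433 c434 rfl rfl) c435 rfl rfl) c436 rfl rfl) c437 rfl rfl) c438 rfl rfl) c439 rfl rfl) (allL_cons (rapp (oneAll 24 (appB tabs t48 0xffffff) [3,4,3,4,3,4]) (fun _ _ _ => oneAll_append) 122760 (rapp (oneAll 24 (appB tabs t48 0xffffff) [3,4,3,4,3,4]) (fun _ _ _ => oneAll_append) 120000 (rapp (oneAll 24 (appB tabs t48 0xffffff) [3,4,3,4,3,4]) (fun _ _ _ => oneAll_append) 100000 (rapp (oneAll 24 (appB tabs t48 0xffffff) [3,4,3,4,3,4]) (fun _ _ _ => oneAll_append) 80000 (rapp (oneAll 24 (appB tabs t48 0xffffff) [3,4,3,4,3,4]) (fun _ _ _ => oneAll_append) 60000 (rapp (oneAll 24 (appB tabs t48 0xffffff) [3,4,3,4,3,4]) (fun _ _ _ => oneAll_append) 40000 c440 c441 rfl rfl) c442 rfl rfl) c443 rfl rfl) c444 rfl rfl) c445 rfl rfl) c446 rfl rfl) (allL_cons (rapp (oneAll 24 (appB tabs t48 0xffffff) [3,5,3,5])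 (fun _ _ _ => oneAll_append) 122760 (rapp (oneAll 24 (appB tabs t48 0xffffff) [3,5,3,5]) (fun _ _ _ => oneAll_append) 120000 (rapp (oneAll 24 (appB tabs t48 0xffffff) [3,5,3,5]) (fun _ _ _ => oneAll_append) 100000 (rapp (oneAll 24 (appB tabs t48 0xffffff) [3,5,3,5]) (fun _ _ _ => oneAll_append) 80000 (rapp (oneAll 24 (appB tabs t48 0xffffff) [3,5,3,5]) (fun _ _ _ => oneAll_append) 60000 (rapp (oneAll 24 (appB tabs t48 0xffffff) [3,5,3,5]) (fun _ _ _ => oneAll_append) 40000 c447 c448 rfl rfl) c449 rfl rfl) c450 rfl rfl) c451 rfl rfl) c452 rfl rfl) c453 rfl rfl) (allL_cons (rapp (oneAll 24 (appB tabs t48 0xffffff) [3,6,3,6]) (fun _ _ _ => oneAll_append) 122760 (rapp (oneAll 24 (appB tabs t48 0xffffff) [3,6,3,6]) (fun _ _ _ => oneAll_append) 120000 (rapp (oneAll 24 (appB tabs t48 0xffffff) [3,6,3,6]) (fun _ _ _ => oneAll_append) 100000 (rapp (oneAll 24 (appB tabs t48 0xffffff) [3,6,3,6]) (fun _ _ _ => oneAll_append)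 80000 (rapp (oneAll 24 (appB tabs t48 0xffffff) [3,6,3,6]) (fun _ _ _ => oneAll_append) 60000 (rapp (oneAll 24 (appB tabs t48 0xffffff) [3,6,3,6]) (fun _ _ _ => oneAll_append) 40000 c454 c455 rfl rfl) c456 rfl rfl) c457 rfl rfl) c458 rfl rfl) c459 rfl rfl) c460 rfl rfl) (allL_cons (rapp (oneAll 24 (appB tabs t48 0xffffff) [3,7,3,7]) (fun _ _ _ => oneAll_append) 122760 (rapp (oneAll 24 (appB tabs t48 0xffffff) [3,7,3,7]) (fun _ _ _ => oneAll_append) 120000 (rapp (oneAll 24 (appB tabs t48 0xffffff) [3,7,3,7]) (fun _ _ _ => oneAll_append) 100000 (rapp (oneAll 24 (appB tabs t48 0xffffff) [3,7,3,7]) (fun _ _ _ => oneAll_append) 80000 (rapp (oneAll 24 (appB tabs t48 0xffffff) [3,7,3,7]) (fun _ _ _ => oneAll_append) 60000 (rapp (oneAll 24 (appB tabs t48 0xffffff) [3,7,3,7]) (fun _ _ _ => oneAll_append) 40000 c461 c462 rfl rfl) c463 rfl rfl) c464 rfl rfl) c465 rfl rfl) c466 rfl rfl) c467 rfl rfl) (allL_cons (rapp (oneAll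 24 (appB tabs t48 0xffffff) [4,5,4,5,4,5,4,5,4,5,4,5,4,5,4,5]) (fun _ _ _ => oneAll_append) 122760 (rapp (oneAll 24 (appB tabs t48 0xffffff) [4,5,4,5,4,5,4,5,4,5,4,5,4,5,4,5]) (fun _ _ _ => oneAll_append) 120000 (rapp (oneAll 24 (appB tabs t48 0xffffff) [4,5,4,5,4,5,4,5,4,5,4,5,4,5,4,5]) (fun _ _ _ => oneAll_append) 100000 (rapp (oneAll 24 (appB tabs t48 0xffffff) [4,5,4,5,4,5,4,5,4,5,4,5,4,5,4,5]) (fun _ _ _ => oneAll_append) 80000 (rapp (oneAll 24 (appB tabs t48 0xffffff) [4,5,4,5,4,5,4,5,4,5,4,5,4,5,4,5]) (fun _ _ _ => oneAll_append) 60000 (rapp (oneAll 24 (appB tabs t48 0xffffff) [4,5,4,5,4,5,4,5,4,5,4,5,4,5,4,5]) (fun _ _ _ => oneAll_append) 40000 c468 c469 rfl rfl) c470 rfl rfl) c471 rfl rfl) c472 rfl rfl) c473 rfl rfl) c474 rfl rfl) (allL_cons (rapp (oneAll 24 (appB tabs t48 0xffffff) [4,6,4,6]) (fun _ _ _ => oneAll_append) 122760 (rapp (oneAll 24 (appB tabs t48 0xffffff) [4,6,4,6]) (fun _ _ _ => oneAll_append)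 120000 (rapp (oneAll 24 (appB tabs t48 0xffffff) [4,6,4,6]) (fun _ _ _ => oneAll_append) 100000 (rapp (oneAll 24 (appB tabs t48 0xffffff) [4,6,4,6]) (fun _ _ _ => oneAll_append) 80000 (rapp (oneAll 24 (appB tabs t48 0xffffff) [4,6,4,6]) (fun _ _ _ => oneAll_append) 60000 (rapp (oneAll 24 (appB tabs t48 0xffffff) [4,6,4,6]) (fun _ _ _ => oneAll_append) 40000 c475 c476 rfl rfl) c477 rfl rfl) c478 rfl rfl) c479 rfl rfl) c480 rfl rfl) c481 rfl rfl) (allL_cons (rapp (oneAll 24 (appB tabs t48 0xffffff) [4,7,4,7]) (fun _ _ _ => oneAll_append) 122760 (rapp (oneAll 24 (appB tabs t48 0xffffff) [4,7,4,7]) (fun _ _ _ => oneAll_append) 120000 (rapp (oneAll 24 (appB tabs t48 0xffffff) [4,7,4,7]) (fun _ _ _ => oneAll_append) 100000 (rapp (oneAll 24 (appB tabs t48 0xffffff) [4,7,4,7]) (fun _ _ _ => oneAll_append) 80000 (rapp (oneAll 24 (appB tabs t48 0xffffff) [4,7,4,7]) (fun _ _ _ => oneAll_append) 60000 (rapp (oneAll 24 (appB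 tabs t48 0xffffff) [4,7,4,7]) (fun _ _ _ => oneAll_append) 40000 c482 c483 rfl rfl) c484 rfl rfl) c485 rfl rfl) c486 rfl rfl) c487 rfl rfl) c488 rfl rfl) (allL_cons (rapp (oneAll 24 (appB tabs t48 0xffffff) [5,6,5,6,5,6]) (fun _ _ _ => oneAll_append) 122760 (rapp (oneAll 24 (appB tabs t48 0xffffff) [5,6,5,6,5,6]) (fun _ _ _ => oneAll_append) 120000 (rapp (oneAll 24 (appB tabs t48 0xffffff) [5,6,5,6,5,6]) (fun _ _ _ => oneAll_append) 100000 (rapp (oneAll 24 (appB tabs t48 0xffffff) [5,6,5,6,5,6]) (fun _ _ _ => oneAll_append) 80000 (rapp (oneAll 24 (appB tabs t48 0xffffff) [5,6,5,6,5,6]) (fun _ _ _ => oneAll_append) 60000 (rapp (oneAll 24 (appB tabs t48 0xffffff) [5,6,5,6,5,6]) (fun _ _ _ => oneAll_append) 40000 c489 c490 rfl rfl) c491 rfl rfl) c492 rfl rfl) c493 rfl rfl) c494 rfl rfl) c495 rfl rfl) (allL_cons (rapp (oneAll 24 (appB tabs t48 0xffffff) [5,7,5,7]) (fun _ _ _ => oneAll_append) 122760 (rapp (oneAll 24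 (appB tabs t48 0xffffff) [5,7,5,7]) (fun _ _ _ => oneAll_append) 120000 (rapp (oneAll 24 (appB tabs t48 0xffffff) [5,7,5,7]) (fun _ _ _ => oneAll_append) 100000 (rapp (oneAll 24 (appB tabs t48 0xffffff) [5,7,5,7]) (fun _ _ _ => oneAll_append) 80000 (rapp (oneAll 24 (appB tabs t48 0xffffff) [5,7,5,7]) (fun _ _ _ => oneAll_append) 60000 (rapp (oneAll 24 (appB tabs t48 0xffffff) [5,7,5,7]) (fun _ _ _ => oneAll_append) 40000 c496 c497 rfl rfl) c498 rfl rfl) c499 rfl rfl) c500 rfl rfl) c501 rfl rfl) c502 rfl rfl) (allL_cons (rapp (oneAll 24 (appB tabs t48 0xffffff) [6,7,6,7,6,7]) (fun _ _ _ => oneAll_append) 122760 (rapp (oneAll 24 (appB tabs t48 0xffffff) [6,7,6,7,6,7]) (fun _ _ _ => oneAll_append) 120000 (rapp (oneAll 24 (appB tabs t48 0xffffff) [6,7,6,7,6,7]) (fun _ _ _ => oneAll_append) 100000 (rapp (oneAll 24 (appB tabs t48 0xffffff) [6,7,6,7,6,7]) (fun _ _ _ => oneAll_append) 80000 (rapp (oneAll 24 (appB tabs t48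 0xffffff) [6,7,6,7,6,7]) (fun _ _ _ => oneAll_append) 60000 (rapp (oneAll 24 (appB tabs t48 0xffffff) [6,7,6,7,6,7]) (fun _ _ _ => oneAll_append) 40000 c503 c504 rfl rfl) c505 rfl rfl) c506 rfl rfl) c507 rfl rfl) c508 rfl rfl) c509 rfl rfl) (allL_cons (rapp (oneAll 24 (appB tabs t48 0xffffff) [2,7,1,1]) (fun _ _ _ => oneAll_append) 122760 (rapp (oneAll 24 (appB tabs t48 0xffffff) [2,7,1,1]) (fun _ _ _ => oneAll_append) 120000 (rapp (oneAll 24 (appB tabs t48 0xffffff) [2,7,1,1]) (fun _ _ _ => oneAll_append) 100000 (rapp (oneAll 24 (appB tabs t48 0xffffff) [2,7,1,1]) (fun _ _ _ => oneAll_append) 80000 (rapp (oneAll 24 (appB tabs t48 0xffffff) [2,7,1,1]) (fun _ _ _ => oneAll_append) 60000 (rapp (oneAll 24 (appB tabs t48 0xffffff) [2,7,1,1]) (fun _ _ _ => oneAll_append) 40000 c510 c511 rfl rfl) c512 rfl rfl) c513 rfl rfl) c514 rfl rfl) c515 rfl rfl) c516 rfl rfl) (allL_cons (rapp (oneAll 24 (appB tabs t48 0xffffff)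 [2,7,5,4,5,4,5,4,5,4]) (fun _ _ _ => oneAll_append) 122760 (rapp (oneAll 24 (appB tabs t48 0xffffff) [2,7,5,4,5,4,5,4,5,4]) (fun _ _ _ => oneAll_append) 120000 (rapp (oneAll 24 (appB tabs t48 0xffffff) [2,7,5,4,5,4,5,4,5,4]) (fun _ _ _ => oneAll_append) 100000 (rapp (oneAll 24 (appB tabs t48 0xffffff) [2,7,5,4,5,4,5,4,5,4]) (fun _ _ _ => oneAll_append) 80000 (rapp (oneAll 24 (appB tabs t48 0xffffff) [2,7,5,4,5,4,5,4,5,4]) (fun _ _ _ => oneAll_append) 60000 (rapp (oneAll 24 (appB tabs t48 0xffffff) [2,7,5,4,5,4,5,4,5,4]) (fun _ _ _ => oneAll_append) 40000 c517 c518 rfl rfl) c519 rfl rfl) c520 rfl rfl) c521 rfl rfl) c522 rfl rfl) c523 rfl rfl) (allL_cons (rapp (oneAll 24 (appB tabs t48 0xffffff) [4,1,5,1,5,4,5,0,5,0]) (fun _ _ _ => oneAll_append) 122760 (rapp (oneAll 24 (appB tabs t48 0xffffff) [4,1,5,1,5,4,5,0,5,0]) (fun _ _ _ => oneAll_append) 120000 (rapp (oneAll 24 (appB tabs t48 0xffffff) [4,1,5,1,5,4,5,0,5,0])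 (fun _ _ _ => oneAll_append) 100000 (rapp (oneAll 24 (appB tabs t48 0xffffff) [4,1,5,1,5,4,5,0,5,0]) (fun _ _ _ => oneAll_append) 80000 (rapp (oneAll 24 (appB tabs t48 0xffffff) [4,1,5,1,5,4,5,0,5,0]) (fun _ _ _ => oneAll_append) 60000 (rapp (oneAll 24 (appB tabs t48 0xffffff) [4,1,5,1,5,4,5,0,5,0]) (fun _ _ _ => oneAll_append) 40000 c524 c525 rfl rfl) c526 rfl rfl) c527 rfl rfl) c528 rfl rfl) c529 rfl rfl) c530 rfl rfl) (allL_cons (rapp (oneAll 24 (appB tabs t48 0xffffff) [5,1,4,1,4,5,4,0,4,0]) (fun _ _ _ => oneAll_append) 122760 (rapp (oneAll 24 (appB tabs t48 0xffffff) [5,1,4,1,4,5,4,0,4,0]) (fun _ _ _ => oneAll_append) 120000 (rapp (oneAll 24 (appB tabs t48 0xffffff) [5,1,4,1,4,5,4,0,4,0]) (fun _ _ _ => oneAll_append) 100000 (rapp (oneAll 24 (appB tabs t48 0xffffff) [5,1,4,1,4,5,4,0,4,0]) (fun _ _ _ => oneAll_append) 80000 (rapp (oneAll 24 (appB tabs t48 0xffffff) [5,1,4,1,4,5,4,0,4,0]) (fun _ _ _ => oneAll_append)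 60000 (rapp (oneAll 24 (appB tabs t48 0xffffff) [5,1,4,1,4,5,4,0,4,0]) (fun _ _ _ => oneAll_append) 40000 c531 c532 rfl rfl) c533 rfl rfl) c534 rfl rfl) c535 rfl rfl) c536 rfl rfl) c537 rfl rfl) (allL_cons (rapp (oneAll 24 (appB tabs t48 0xffffff) [3,4,5,0,3,4,5,0,3,4,5,0,3,4,5,0,3,4,5,0]) (fun _ _ _ => oneAll_append) 122760 (rapp (oneAll 24 (appB tabs t48 0xffffff) [3,4,5,0,3,4,5,0,3,4,5,0,3,4,5,0,3,4,5,0]) (fun _ _ _ => oneAll_append) 120000 (rapp (oneAll 24 (appB tabs t48 0xffffff) [3,4,5,0,3,4,5,0,3,4,5,0,3,4,5,0,3,4,5,0]) (fun _ _ _ => oneAll_append) 100000 (rapp (oneAll 24 (appB tabs t48 0xffffff) [3,4,5,0,3,4,5,0,3,4,5,0,3,4,5,0,3,4,5,0]) (fun _ _ _ => oneAll_append) 80000 (rapp (oneAll 24 (appB tabs t48 0xffffff) [3,4,5,0,3,4,5,0,3,4,5,0,3,4,5,0,3,4,5,0]) (fun _ _ _ => oneAll_append) 60000 (rapp (oneAll 24 (appB tabs t48 0xffffff) [3,4,5,0,3,4,5,0,3,4,5,0,3,4,5,0,3,4,5,0]) (fun _ _ _ => oneAll_append) 40000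 c538 c539 rfl rfl) c540 rfl rfl) c541 rfl rfl) c542 rfl rfl) c543 rfl rfl) c544 rfl rfl) (allL_cons (rapp (oneAll 24 (appB tabs t48 0xffffff) [0,3,4,0,4,3,0,3,4,0,4]) (fun _ _ _ => oneAll_append) 122760 (rapp (oneAll 24 (appB tabs t48 0xffffff) [0,3,4,0,4,3,0,3,4,0,4]) (fun _ _ _ => oneAll_append) 120000 (rapp (oneAll 24 (appB tabs t48 0xffffff) [0,3,4,0,4,3,0,3,4,0,4]) (fun _ _ _ => oneAll_append) 100000 (rapp (oneAll 24 (appB tabs t48 0xffffff) [0,3,4,0,4,3,0,3,4,0,4]) (fun _ _ _ => oneAll_append) 80000 (rapp (oneAll 24 (appB tabs t48 0xffffff) [0,3,4,0,4,3,0,3,4,0,4]) (fun _ _ _ => oneAll_append) 60000 (rapp (oneAll 24 (appB tabs t48 0xffffff) [0,3,4,0,4,3,0,3,4,0,4]) (fun _ _ _ => oneAll_append) 40000 c545 c546 rfl rfl) c547 rfl rfl) c548 rfl rfl) c549 rfl rfl) c550 rfl rfl) c551 rfl rfl) (allL_cons (rapp (oneAll 24 (appB tabs t48 0xffffff) [0,6,5,0,5,6,0,6,5,0,5]) (fun _ _ _ => oneAll_append) 122760 (rapp (oneAll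 24 (appB tabs t48 0xffffff) [0,6,5,0,5,6,0,6,5,0,5]) (fun _ _ _ => oneAll_append) 120000 (rapp (oneAll 24 (appB tabs t48 0xffffff) [0,6,5,0,5,6,0,6,5,0,5]) (fun _ _ _ => oneAll_append) 100000 (rapp (oneAll 24 (appB tabs t48 0xffffff) [0,6,5,0,5,6,0,6,5,0,5]) (fun _ _ _ => oneAll_append) 80000 (rapp (oneAll 24 (appB tabs t48 0xffffff) [0,6,5,0,5,6,0,6,5,0,5]) (fun _ _ _ => oneAll_append) 60000 (rapp (oneAll 24 (appB tabs t48 0xffffff) [0,6,5,0,5,6,0,6,5,0,5]) (fun _ _ _ => oneAll_append) 40000 c552 c553 rfl rfl) c554 rfl rfl) c555 rfl rfl) c556 rfl rfl) c557 rfl rfl) c558 rfl rfl) (allL_nil _))))))))))))))))))))))))))))))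

theorem clS : cl act.gen tcS = ⊤ := tabOK.clS (by decide +kernel)

theorem prod_mc : prodN mc = 460815505920 := by decide +kernel

theorem le_card : 460815505920 ≤ Nat.card PG := prod_mc ▸ chain.prodN_le_card

variable [hb : Fact (Bounds tcR tcS 460815505920)]
include hb

theorem bounds : Bounds tcR tcS 460815505920 := hb.out

theorem card_le : Nat.card PG ≤ prodN mc := prod_mc ▸ (bounds.card_le rels clS).2

theorem card : Nat.card PG = 460815505920 := prod_mc ▸ chain.card_eq card_le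

theorem base : act.IsBase bs := (show bases mc = bs from (eqL_iff _ _).1 (by decide +kernel)) ▸ chain.isBase card_le

theorem hinv : ∀ a, act.gen (inv a) = (act.gen a)⁻¹ :=
  tabOK.inv (by decide) base (by decide +kernel) (by decide +kernel)

theorem clAT : cl act.gen [15, 17] = ⊤ :=
  tabOK.cl_eq_top_of_chain (lo := 15) (cnt := 21) (by decide) (by decide) (by decide +kernel) chain card_le (by decide +kernel)

end Cfsg.Agent.CG.ON
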