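import Cfsg.Agent.Lib.Grp.ON.ODefs

set_option autoImplicit false
set_option maxRecDepth 100000
set_option Elab.async false
set_option linter.unusedSectionVars false

namespace Cfsg.Agent.CG.ON

theorem Oc559 : cc0.chk (appB tabs t48 0xffffff) 1 20000 = true := by decide +kernel
theorem Oc560 : cc0.chk (appB tabs t48 0xffffff) 20001 20000 = true := by decide +kernel
theorem Oc561 : cc0.chk (appB tabs t48 0xffffff) 40001 319 = true := by decide +kernel
theorem Oc562 : cc1.chk (appB tabs t48 0xffffff) 1 3 = true := by decide +kernel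
theorem Oc563 : okcb 122760 24 (bases cc) = true := by decide +kernel
theorem Oc564 : headAll (appB tabs t48 0xffffff) cc [] = true := by decide +kernel
theorem Oc565 : trChk (appB tabs t48 0xffffff) mc0 [mc1, mc2] bs (diagQ pQ) (diagQ pR) pF 0 1621 = true := by decide +kernel
theorem Oc566 : trChk (appB tabs t48 0xffffff) mc0 [mc1, mc2] bs (diagQ pQ) (diagQ pR) pF 1621 1621 = true := by decide +kernel
theorem Oc567 : trChk (appB tabs t48 0xffffff) mc0 [mc1, mc2] bs (diagQ pQ) (diagQ pR) pF 3242 1621 = true := by decide +kernel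
theorem Oc568 : trChk (appB tabs t48 0xffffff) mc0 [mc1, mc2] bs (diagQ pQ) (diagQ pR) pF 4863 1621 = true := by decide +kernel
theorem Oc569 : trChk (appB tabs t48 0xffffff) mc0 [mc1, mc2] bs (diagQ pQ) (diagQ pR) pF 6484 1621 = true := by decide +kernel
theorem Oc570 : trChk (appB tabs t48 0xffffff) mc0 [mc1, mc2] bs (diagQ pQ) (diagQ pR) pF 8105 1621 = true := by decide +kernel
theorem Oc571 : trChk (appB tabs t48 0xffffff) mc0 [mc1, mc2] bs (diagQ pQ) (diagQ pR) pF 9726 1621 = true := by decide +kernel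
theorem Oc572 : trChk (appB tabs t48 0xffffff) mc0 [mc1, mc2] bs (diagQ pQ) (diagQ pR) pF 11347 1621 = true := by decide +kernel
theorem Oc573 : trChk (appB tabs t48 0xffffff) mc0 [mc1, mc2] bs (diagQ pQ) (diagQ pR) pF 12968 1621 = true := by decide +kernel
theorem Oc574 : trChk (appB tabs t48 0xffffff) mc0 [mc1, mc2] bs (diagQ pQ) (diagQ pR) pF 14589 1621 = true := by decide +kernel
theorem Oc575 : trChk (appB tabs t48 0xffffff) mc0 [mc1, mc2] bs (diagQ pQ) (diagQ pR) pF 16210 1621 = true := by decide +kernel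
theorem Oc576 : trChk (appB tabs t48 0xffffff) mc0 [mc1, mc2] bs (diagQ pQ) (diagQ pR) pF 17831 1621 = true := by decide +kernel
theorem Oc577 : trChk (appB tabs t48 0xffffff) mc0 [mc1, mc2] bs (diagQ pQ) (diagQ pR) pF 19452 1621 = true := by decide +kernel
theorem Oc578 : trChk (appB tabs t48 0xffffff) mc0 [mc1, mc2] bs (diagQ pQ) (diagQ pR) pF 21073 1621 = true := by decide +kernel
theorem Oc579 : trChk (appB tabs t48 0xffffff) mc0 [mc1, mc2] bs (diagQ pQ) (diagQ pR) pF 22694 1621 = true := by decide +kernel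
theorem Oc580 : trChk (appB tabs t48 0xffffff) mc0 [mc1, mc2] bs (diagQ pQ) (diagQ pR) pF 24315 1621 = true := by decide +kernel
theorem Oc581 : trChk (appB tabs t48 0xffffff) mc0 [mc1, mc2] bs (diagQ pQ) (diagQ pR) pF 25936 1621 = true := by decide +kernel
theorem Oc582 : trChk (appB tabs t48 0xffffff) mc0 [mc1, mc2] bs (diagQ pQ) (diagQ pR) pF 27557 1621 = true := by decide +kernel
theorem Oc583 : trChk (appB tabs t48 0xffffff) mc0 [mc1, mc2] bs (diagQ pQ) (diagQ pR) pF 29178 1621 = true := by decide +kernel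
theorem Oc584 : trChk (appB tabs t48 0xffffff) mc0 [mc1, mc2] bs (diagQ pQ) (diagQ pR) pF 30799 1621 = true := by decide +kernel
theorem Oc585 : trChk (appB tabs t48 0xffffff) mc0 [mc1, mc2] bs (diagQ pQ) (diagQ pR) pF 32420 1621 = true := by decide +kernel
theorem Oc586 : trChk (appB tabs t48 0xffffff) mc0 [mc1, mc2] bs (diagQ pQ) (diagQ pR) pF 34041 1621 = true := by decide +kernel
theorem Oc587 : trChk (appB tabs t48 0xffffff) mc0 [mc1, mc2] bs (diagQ pQ) (diagQ pR) pF 35662 1621 = true := by decide +kernel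
theorem Oc588 : trChk (appB tabs t48 0xffffff) mc0 [mc1, mc2] bs (diagQ pQ) (diagQ pR) pF 37283 1621 = true := by decide +kernel

end Cfsg.Agent.CG.ON
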