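import Cfsg.Agent.Lib.Grp.ON.ODefs

set_option autoImplicit false
set_option maxRecDepth 100000
set_option Elab.async false
set_option linter.unusedSectionVars false

namespace Cfsg.Agent.CG.ON

theorem Oc589 : trChk (appB tabs t48 0xffffff) mc0 [mc1, mc2] bs (diagQ pQ) (diagQ pR) pF 38904 1621 = true := by decide +kernel
theorem Oc590 : trChk (appB tabs t48 0xffffff) mc0 [mc1, mc2] bs (diagQ pQ) (diagQ pR) pF 40525 1621 = true := by decide +kernel
theorem Oc591 : trChk (appB tabs t48 0xffffff) mc0 [mc1, mc2] bs (diagQ pQ) (diagQ pR) pF 42146 1621 = true := by decide +kernel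
theorem Oc592 : trChk (appB tabs t48 0xffffff) mc0 [mc1, mc2] bs (diagQ pQ) (diagQ pR) pF 43767 1621 = true := by decide +kernel
theorem Oc593 : trChk (appB tabs t48 0xffffff) mc0 [mc1, mc2] bs (diagQ pQ) (diagQ pR) pF 45388 1621 = true := by decide +kernel
theorem Oc594 : trChk (appB tabs t48 0xffffff) mc0 [mc1, mc2] bs (diagQ pQ) (diagQ pR) pF 47009 1621 = true := by decide +kernel
theorem Oc595 : trChk (appB tabs t48 0xffffff) mc0 [mc1, mc2] bs (diagQ pQ) (diagQ pR) pF 48630 1621 = true := by decide +kernel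
theorem Oc596 : trChk (appB tabs t48 0xffffff) mc0 [mc1, mc2] bs (diagQ pQ) (diagQ pR) pF 50251 1621 = true := by decide +kernel
theorem Oc597 : trChk (appB tabs t48 0xffffff) mc0 [mc1, mc2] bs (diagQ pQ) (diagQ pR) pF 51872 1621 = true := by decide +kernel
theorem Oc598 : trChk (appB tabs t48 0xffffff) mc0 [mc1, mc2] bs (diagQ pQ) (diagQ pR) pF 53493 1621 = true := by decide +kernel
theorem Oc599 : trChk (appB tabs t48 0xffffff) mc0 [mc1, mc2] bs (diagQ pQ) (diagQ pR) pF 55114 1621 = true := by decide +kernel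
theorem Oc600 : trChk (appB tabs t48 0xffffff) mc0 [mc1, mc2] bs (diagQ pQ) (diagQ pR) pF 56735 1621 = true := by decide +kernel
theorem Oc601 : trChk (appB tabs t48 0xffffff) mc0 [mc1, mc2] bs (diagQ pQ) (diagQ pR) pF 58356 1621 = true := by decide +kernel
theorem Oc602 : trChk (appB tabs t48 0xffffff) mc0 [mc1, mc2] bs (diagQ pQ) (diagQ pR) pF 59977 1621 = true := by decide +kernel
theorem Oc603 : trChk (appB tabs t48 0xffffff) mc0 [mc1, mc2] bs (diagQ pQ) (diagQ pR) pF 61598 1621 = true := by decide +kernel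
theorem Oc604 : trChk (appB tabs t48 0xffffff) mc0 [mc1, mc2] bs (diagQ pQ) (diagQ pR) pF 63219 1621 = true := by decide +kernel
theorem Oc605 : trChk (appB tabs t48 0xffffff) mc0 [mc1, mc2] bs (diagQ pQ) (diagQ pR) pF 64840 1621 = true := by decide +kernel
theorem Oc606 : trChk (appB tabs t48 0xffffff) mc0 [mc1, mc2] bs (diagQ pQ) (diagQ pR) pF 66461 1621 = true := by decide +kernel
theorem Oc607 : trChk (appB tabs t48 0xffffff) mc0 [mc1, mc2] bs (diagQ pQ) (diagQ pR) pF 68082 1621 = true := by decide +kernel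
theorem Oc608 : trChk (appB tabs t48 0xffffff) mc0 [mc1, mc2] bs (diagQ pQ) (diagQ pR) pF 69703 1621 = true := by decide +kernel
theorem Oc609 : trChk (appB tabs t48 0xffffff) mc0 [mc1, mc2] bs (diagQ pQ) (diagQ pR) pF 71324 1621 = true := by decide +kernel
theorem Oc610 : trChk (appB tabs t48 0xffffff) mc0 [mc1, mc2] bs (diagQ pQ) (diagQ pR) pF 72945 1621 = true := by decide +kernel
theorem Oc611 : trChk (appB tabs t48 0xffffff) mc0 [mc1, mc2] bs (diagQ pQ) (diagQ pR) pF 74566 1621 = true := by decide +kernel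
theorem Oc612 : trChk (appB tabs t48 0xffffff) mc0 [mc1, mc2] bs (diagQ pQ) (diagQ pR) pF 76187 1621 = true := by decide +kernel
theorem Oc613 : trChk (appB tabs t48 0xffffff) mc0 [mc1, mc2] bs (diagQ pQ) (diagQ pR) pF 77808 1621 = true := by decide +kernel

end Cfsg.Agent.CG.ON
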