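import Cfsg.Agent.Lib.Grp.ON.ODefs

set_option autoImplicit false
set_option maxRecDepth 100000
set_option Elab.async false
set_option linter.unusedSectionVars false

namespace Cfsg.Agent.CG.ON

theorem Oc614 : trChk (appB tabs t48 0xffffff) mc0 [mc1, mc2] bs (diagQ pQ) (diagQ pR) pF 79429 1621 = true := by decide +kernel
theorem Oc615 : trChk (appB tabs t48 0xffffff) mc0 [mc1, mc2] bs (diagQ pQ) (diagQ pR) pF 81050 1621 = true := by decide +kernel
theorem Oc616 : trChk (appB tabs t48 0xffffff) mc0 [mc1, mc2] bs (diagQ pQ) (diagQ pR) pF 82671 1621 = true := by decide +kernel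
theorem Oc617 : trChk (appB tabs t48 0xffffff) mc0 [mc1, mc2] bs (diagQ pQ) (diagQ pR) pF 84292 1621 = true := by decide +kernel
theorem Oc618 : trChk (appB tabs t48 0xffffff) mc0 [mc1, mc2] bs (diagQ pQ) (diagQ pR) pF 85913 1621 = true := by decide +kernel
theorem Oc619 : trChk (appB tabs t48 0xffffff) mc0 [mc1, mc2] bs (diagQ pQ) (diagQ pR) pF 87534 1621 = true := by decide +kernel
theorem Oc620 : trChk (appB tabs t48 0xffffff) mc0 [mc1, mc2] bs (diagQ pQ) (diagQ pR) pF 89155 1621 = true := by decide +kernel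
theorem Oc621 : trChk (appB tabs t48 0xffffff) mc0 [mc1, mc2] bs (diagQ pQ) (diagQ pR) pF 90776 1621 = true := by decide +kernel
theorem Oc622 : trChk (appB tabs t48 0xffffff) mc0 [mc1, mc2] bs (diagQ pQ) (diagQ pR) pF 92397 1621 = true := by decide +kernel
theorem Oc623 : trChk (appB tabs t48 0xffffff) mc0 [mc1, mc2] bs (diagQ pQ) (diagQ pR) pF 94018 1621 = true := by decide +kernel
theorem Oc624 : trChk (appB tabs t48 0xffffff) mc0 [mc1, mc2] bs (diagQ pQ) (diagQ pR) pF 95639 1621 = true := by decide +kernel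
theorem Oc625 : trChk (appB tabs t48 0xffffff) mc0 [mc1, mc2] bs (diagQ pQ) (diagQ pR) pF 97260 1621 = true := by decide +kernel
theorem Oc626 : trChk (appB tabs t48 0xffffff) mc0 [mc1, mc2] bs (diagQ pQ) (diagQ pR) pF 98881 1621 = true := by decide +kernel
theorem Oc627 : trChk (appB tabs t48 0xffffff) mc0 [mc1, mc2] bs (diagQ pQ) (diagQ pR) pF 100502 1621 = true := by decide +kernel
theorem Oc628 : trChk (appB tabs t48 0xffffff) mc0 [mc1, mc2] bs (diagQ pQ) (diagQ pR) pF 102123 1621 = true := by decide +kernel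
theorem Oc629 : trChk (appB tabs t48 0xffffff) mc0 [mc1, mc2] bs (diagQ pQ) (diagQ pR) pF 103744 1621 = true := by decide +kernel
theorem Oc630 : trChk (appB tabs t48 0xffffff) mc0 [mc1, mc2] bs (diagQ pQ) (diagQ pR) pF 105365 1621 = true := by decide +kernel
theorem Oc631 : trChk (appB tabs t48 0xffffff) mc0 [mc1, mc2] bs (diagQ pQ) (diagQ pR) pF 106986 1621 = true := by decide +kernel
theorem Oc632 : trChk (appB tabs t48 0xffffff) mc0 [mc1, mc2] bs (diagQ pQ) (diagQ pR) pF 108607 1621 = true := by decide +kernel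
theorem Oc633 : trChk (appB tabs t48 0xffffff) mc0 [mc1, mc2] bs (diagQ pQ) (diagQ pR) pF 110228 1621 = true := by decide +kernel
theorem Oc634 : trChk (appB tabs t48 0xffffff) mc0 [mc1, mc2] bs (diagQ pQ) (diagQ pR) pF 111849 1621 = true := by decide +kernel
theorem Oc635 : trChk (appB tabs t48 0xffffff) mc0 [mc1, mc2] bs (diagQ pQ) (diagQ pR) pF 113470 1621 = true := by decide +kernel
theorem Oc636 : trChk (appB tabs t48 0xffffff) mc0 [mc1, mc2] bs (diagQ pQ) (diagQ pR) pF 115091 1621 = true := by decide +kernel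
theorem Oc637 : trChk (appB tabs t48 0xffffff) mc0 [mc1, mc2] bs (diagQ pQ) (diagQ pR) pF 116712 1621 = true := by decide +kernel
theorem Oc638 : trChk (appB tabs t48 0xffffff) mc0 [mc1, mc2] bs (diagQ pQ) (diagQ pR) pF 118333 1621 = true := by decide +kernel

end Cfsg.Agent.CG.ON
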