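import Cfsg.Agent.Lib.Grp.ON.ODefs

set_option autoImplicit false
set_option maxRecDepth 100000
set_option Elab.async false
set_option linter.unusedSectionVars false

namespace Cfsg.Agent.CG.ON

theorem Oc639 : trChk (appB tabs t48 0xffffff) mc0 [mc1, mc2] bs (diagQ pQ) (diagQ pR) pF 119954 1621 = true := by decide +kernel
theorem Oc640 : trChk (appB tabs t48 0xffffff) mc0 [mc1, mc2] bs (diagQ pQ) (diagQ pR) pF 121575 1185 = true := by decide +kernel
theorem Oc641 : classChk (appB tabs t48 0xffffff) bs 17 2 12 [10,36] pS pF pU = true := by decide +kernel
theorem Oc642 : powChk (appB tabs t48 0xffffff) bs 15 19 aK nK = true := by decide +kernel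
theorem Oc643 : en.chk (appB tabs t48 0xffffff) (tst0 off 0 tst) 0 1467 0 8788788331214694456 = true := by decide +kernel
theorem Oc644 : en.chk (appB tabs t48 0xffffff) (tst0 off 0 tst) 1467 1467 8788788331214694456 16902029328024023424 = true := by decide +kernel
theorem Oc645 : en.chk (appB tabs t48 0xffffff) (tst0 off 0 tst) 2934 1467 16902029328024023424 24954479153580055416 = true := by decide +kernel
theorem Oc646 : en.chk (appB tabs t48 0xffffff) (tst0 off 0 tst) 4401 1467 24954479153580055416 32655624791908143384 = true := by decide +kernel
theorem Oc647 : en.chk (appB tabs t48 0xffffff) (tst0 off 0 tst) 5868 1467 32655624791908143384 40762129558789422312 = true := by decide +kernel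
theorem Oc648 : en.chk (appB tabs t48 0xffffff) (tst0 off 0 tst) 7335 1467 40762129558789422312 48773990604576691512 = true := by decide +kernel
theorem Oc649 : en.chk (appB tabs t48 0xffffff) (tst0 off 0 tst) 8802 1467 48773990604576691512 56495433420154403544 = true := by decide +kernel
theorem Oc650 : en.chk (appB tabs t48 0xffffff) (tst0 off 0 tst) 10269 1467 56495433420154403544 64770781793604941976 = true := by decide +kernel
theorem Oc651 : en.chk (appB tabs t48 0xffffff) (tst0 off 0 tst) 11736 1467 64770781793604941976 73343414098309741536 = true := by decide +kernel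
theorem Oc652 : en.chk (appB tabs t48 0xffffff) (tst0 off 0 tst) 13203 1467 73343414098309741536 81490398837197902392 = true := by decide +kernel
theorem Oc653 : en.chk (appB tabs t48 0xffffff) (tst0 off 0 tst) 14670 1467 81490398837197902392 88921359190522537800 = true := by decide +kernel
theorem Oc654 : en.chk (appB tabs t48 0xffffff) (tst0 off 0 tst) 16137 1467 88921359190522537800 97291268940072862896 = true := by decide +kernel
theorem Oc655 : en.chk (appB tabs t48 0xffffff) (tst0 off 0 tst) 17604 1467 97291268940072862896 105087042126122062584 = true := by decide +kernel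
theorem Oc656 : en.chk (appB tabs t48 0xffffff) (tst0 off 0 tst) 19071 1467 105087042126122062584 113139450033470561592 = true := by decide +kernel
theorem Oc657 : en.chk (appB tabs t48 0xffffff) (tst0 off 0 tst) 20538 1467 113139450033470561592 121272934405415549496 = true := by decide +kernel
theorem Oc658 : en.chk (appB tabs t48 0xffffff) (tst0 off 0 tst) 22005 1467 121272934405415549496 129507775067677040664 = true := by decide +kernel
theorem Oc659 : en.chk (appB tabs t48 0xffffff) (tst0 off 0 tst) 23472 1467 129507775067677040664 137499430947701368248 = true := by decide +kernel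
theorem Oc660 : en.chk (appB tabs t48 0xffffff) (tst0 off 0 tst) 24939 1467 137499430947701368248 145774795394662648968 = true := by decide +kernel
theorem Oc661 : en.chk (appB tabs t48 0xffffff) (tst0 off 0 tst) 26406 1467 145774795394662648968 154090673520935492952 = true := by decide +kernel
theorem Oc662 : en.chk (appB tabs t48 0xffffff) (tst0 off 0 tst) 27873 1467 154090673520935492952 162393051481594372176 = true := by decide +kernel
theorem Oc663 : en.chk (appB tabs t48 0xffffff) (tst0 off 0 tst) 29340 1467 162393051481594372176 170708967909446586336 = true := by decide +kernel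
theorem Oc664 : en.chk (appB tabs t48 0xffffff) (tst0 off 0 tst) 30807 1467 170708967909446586336 178795192309040761152 = true := by decide +kernel

end Cfsg.Agent.CG.ON
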