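import Cfsg.Agent.Lib.Grp.ON.ODefs

set_option autoImplicit false
set_option maxRecDepth 100000
set_option Elab.async false
set_option linter.unusedSectionVars false

namespace Cfsg.Agent.CG.ON

theorem Oc665 : en.chk (appB tabs t48 0xffffff) (tst0 off 0 tst) 32274 1467 178795192309040761152 186807086487550752288 = true := by decide +kernel
theorem Oc666 : en.chk (appB tabs t48 0xffffff) (tst0 off 0 tst) 33741 1467 186807086487550752288 194785228018095924768 = true := by decide +kernel
theorem Oc667 : en.chk (appB tabs t48 0xffffff) (tst0 off 0 tst) 35208 1467 194785228018095924768 202851137597788604856 = true := by decide +kernel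
theorem Oc668 : en.chk (appB tabs t48 0xffffff) (tst0 off 0 tst) 36675 1467 202851137597788604856 210883336779113288232 = true := by decide +kernel
theorem Oc669 : en.chk (appB tabs t48 0xffffff) (tst0 off 0 tst) 38142 1467 210883336779113288232 218597987588035343904 = true := by decide +kernel
theorem Oc670 : en.chk (appB tabs t48 0xffffff) (tst0 off 0 tst) 39609 1467 218597987588035343904 226853106809265291720 = true := by decide +kernel
theorem Oc671 : en.chk (appB tabs t48 0xffffff) (tst0 off 0 tst) 41076 1467 226853106809265291720 234925796228643884856 = true := by decide +kernel
theorem Oc672 : en.chk (appB tabs t48 0xffffff) (tst0 off 0 tst) 42543 1467 234925796228643884856 243086324543590616520 = true := by decide +kernel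
theorem Oc673 : en.chk (appB tabs t48 0xffffff) (tst0 off 0 tst) 44010 1467 243086324543590616520 251159042142247305264 = true := by decide +kernel
theorem Oc674 : en.chk (appB tabs t48 0xffffff) (tst0 off 0 tst) 45477 1467 251159042142247305264 259123637690478998424 = true := by decide +kernel
theorem Oc675 : en.chk (appB tabs t48 0xffffff) (tst0 off 0 tst) 46944 1467 259123637690478998424 266872086530001316920 = true := by decide +kernel
theorem Oc676 : en.chk (appB tabs t48 0xffffff) (tst0 off 0 tst) 48411 1467 266872086530001316920 275242005668620077312 = true := by decide +kernel
theorem Oc677 : en.chk (appB tabs t48 0xffffff) (tst0 off 0 tst) 49878 1467 275242005668620077312 283429569095176939416 = true := by decide +kernel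
theorem Oc678 : en.chk (appB tabs t48 0xffffff) (tst0 off 0 tst) 51345 1467 283429569095176939416 291988659632138762568 = true := by decide +kernel
theorem Oc679 : en.chk (appB tabs t48 0xffffff) (tst0 off 0 tst) 52812 1467 291988659632138762568 300311328241429767840 = true := by decide +kernel
theorem Oc680 : en.chk (appB tabs t48 0xffffff) (tst0 off 0 tst) 54279 1467 300311328241429767840 308850133816429049520 = true := by decide +kernel
theorem Oc681 : en.chk (appB tabs t48 0xffffff) (tst0 off 0 tst) 55746 1467 308850133816429049520 316862046355520582832 = true := by decide +kernel
theorem Oc682 : en.chk (appB tabs t48 0xffffff) (tst0 off 0 tst) 57213 1467 316862046355520582832 325299550932539234520 = true := by decide +kernel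
theorem Oc683 : en.chk (appB tabs t48 0xffffff) (tst0 off 0 tst) 58680 1467 325299550932539234520 333649210804105170264 = true := by decide +kernel
theorem Oc684 : en.chk (appB tabs t48 0xffffff) (tst0 off 0 tst) 60147 1467 333649210804105170264 342147484972582580568 = true := by decide +kernel
theorem Oc685 : en.chk (appB tabs t48 0xffffff) (tst0 off 0 tst) 61614 1467 342147484972582580568 349767573361325205456 = true := by decide +kernel
theorem Oc686 : en.chk (appB tabs t48 0xffffff) (tst0 off 0 tst) 63081 1467 349767573361325205456 357880821744403133568 = true := by decide +kernel
theorem Oc687 : en.chk (appB tabs t48 0xffffff) (tst0 off 0 tst) 64548 1467 357880821744403133568 366311579590702166832 = true := by decide +kernel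
theorem Oc688 : en.chk (appB tabs t48 0xffffff) (tst0 off 0 tst) 66015 1467 366311579590702166832 374215369923139076712 = true := by decide +kernel
theorem Oc689 : en.chk (appB tabs t48 0xffffff) (tst0 off 0 tst) 67482 1467 374215369923139076712 382011113454990634200 = true := by decide +kernel

end Cfsg.Agent.CG.ON
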