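import Cfsg.Agent.Lib.Grp.ON.ODefs

set_option autoImplicit false
set_option maxRecDepth 100000
set_option Elab.async false
set_option linter.unusedSectionVars false

namespace Cfsg.Agent.CG.ON

theorem Oc690 : en.chk (appB tabs t48 0xffffff) (tst0 off 0 tst) 68949 1467 382011113454990634200 390435080953564131720 = true := by decide +kernel
theorem Oc691 : en.chk (appB tabs t48 0xffffff) (tst0 off 0 tst) 70416 1467 390435080953564131720 398582107896950740128 = true := by decide +kernel
theorem Oc692 : en.chk (appB tabs t48 0xffffff) (tst0 off 0 tst) 71883 1467 398582107896950740128 406614285988910874768 = true := by decide +kernel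
theorem Oc693 : en.chk (appB tabs t48 0xffffff) (tst0 off 0 tst) 73350 1467 406614285988910874768 414828859714783678248 = true := by decide +kernel
theorem Oc694 : en.chk (appB tabs t48 0xffffff) (tst0 off 0 tst) 74817 1467 414828859714783678248 423259568078227552608 = true := by decide +kernel
theorem Oc695 : en.chk (appB tabs t48 0xffffff) (tst0 off 0 tst) 76284 1467 423259568078227552608 431588996826588882792 = true := by decide +kernel
theorem Oc696 : en.chk (appB tabs t48 0xffffff) (tst0 off 0 tst) 77751 1467 431588996826588882792 439871090719579018920 = true := by decide +kernel
theorem Oc697 : en.chk (appB tabs t48 0xffffff) (tst0 off 0 tst) 79218 1467 439871090719579018920 447889740079288811664 = true := by decide +kernel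
theorem Oc698 : en.chk (appB tabs t48 0xffffff) (tst0 off 0 tst) 80685 1467 447889740079288811664 456097578430472364312 = true := by decide +kernel
theorem Oc699 : en.chk (appB tabs t48 0xffffff) (tst0 off 0 tst) 82152 1467 456097578430472364312 463873054655493352272 = true := by decide +kernel
theorem Oc700 : en.chk (appB tabs t48 0xffffff) (tst0 off 0 tst) 83619 1467 463873054655493352272 472310526093754820232 = true := by decide +kernel
theorem Oc701 : en.chk (appB tabs t48 0xffffff) (tst0 off 0 tst) 85086 1467 472310526093754820232 480362981859252735768 = true := by decide +kernel
theorem Oc702 : en.chk (appB tabs t48 0xffffff) (tst0 off 0 tst) 86553 1467 480362981859252735768 488395119420545370024 = true := by decide +kernel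
theorem Oc703 : en.chk (appB tabs t48 0xffffff) (tst0 off 0 tst) 88020 1467 488395119420545370024 496656978927631997928 = true := by decide +kernel
theorem Oc704 : en.chk (appB tabs t48 0xffffff) (tst0 off 0 tst) 89487 1467 496656978927631997928 505141758526565921232 = true := by decide +kernel
theorem Oc705 : en.chk (appB tabs t48 0xffffff) (tst0 off 0 tst) 90954 1467 505141758526565921232 513518456797003406280 = true := by decide +kernel
theorem Oc706 : en.chk (appB tabs t48 0xffffff) (tst0 off 0 tst) 92421 1467 513518456797003406280 521955979750709290680 = true := by decide +kernel
theorem Oc707 : en.chk (appB tabs t48 0xffffff) (tst0 off 0 tst) 93888 1467 521955979750709290680 530413723318376142000 = true := by decide +kernel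
theorem Oc708 : en.chk (appB tabs t48 0xffffff) (tst0 off 0 tst) 95355 1467 530413723318376142000 538229717665988915040 = true := by decide +kernel
theorem Oc709 : en.chk (appB tabs t48 0xffffff) (tst0 off 0 tst) 96822 1467 538229717665988915040 546748290702860540160 = true := by decide +kernel
theorem Oc710 : en.chk (appB tabs t48 0xffffff) (tst0 off 0 tst) 98289 1467 546748290702860540160 554483233023302064888 = true := by decide +kernel
theorem Oc711 : en.chk (appB tabs t48 0xffffff) (tst0 off 0 tst) 99756 1467 554483233023302064888 562738303229964768432 = true := by decide +kernel
theorem Oc712 : en.chk (appB tabs t48 0xffffff) (tst0 off 0 tst) 101223 1467 562738303229964768432 570797491437630257808 = true := by decide +kernel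
theorem Oc713 : en.chk (appB tabs t48 0xffffff) (tst0 off 0 tst) 102690 1467 570797491437630257808 578937750970027927128 = true := by decide +kernel
theorem Oc714 : en.chk (appB tabs t48 0xffffff) (tst0 off 0 tst) 104157 1467 578937750970027927128 586328169499790489016 = true := by decide +kernel

end Cfsg.Agent.CG.ON
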