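import Cfsg.Agent.Lib.Grp.ON.ODefs

set_option autoImplicit false
set_option maxRecDepth 100000
set_option Elab.async false
set_option linter.unusedSectionVars false

namespace Cfsg.Agent.CG.ON

theorem Oc715 : en.chk (appB tabs t48 0xffffff) (tst0 off 0 tst) 105624 1467 586328169499790489016 592124320579591818360 = true := by decide +kernel
theorem Oc716 : en.chk (appB tabs t48 0xffffff) (tst0 off 0 tst) 107091 1467 592124320579591818360 599838968087562228288 = true := by decide +kernel
theorem Oc717 : en.chk (appB tabs t48 0xffffff) (tst0 off 0 tst) 108558 1467 599838968087562228288 607790077562235506256 = true := by decide +kernel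
theorem Oc718 : en.chk (appB tabs t48 0xffffff) (tst0 off 0 tst) 110025 1467 607790077562235506256 615970870206791571600 = true := by decide +kernel
theorem Oc719 : en.chk (appB tabs t48 0xffffff) (tst0 off 0 tst) 111492 1467 615970870206791571600 623834152571148698472 = true := by decide +kernel
theorem Oc720 : en.chk (appB tabs t48 0xffffff) (tst0 off 0 tst) 112959 1467 623834152571148698472 632001419387389519344 = true := by decide +kernel
theorem Oc721 : en.chk (appB tabs t48 0xffffff) (tst0 off 0 tst) 114426 1467 632001419387389519344 640675372077826249104 = true := by decide +kernel
theorem Oc722 : en.chk (appB tabs t48 0xffffff) (tst0 off 0 tst) 115893 1467 640675372077826249104 648727793853356052288 = true := by decide +kernel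
theorem Oc723 : en.chk (appB tabs t48 0xffffff) (tst0 off 0 tst) 117360 1467 648727793853356052288 656672126420865613824 = true := by decide +kernel
theorem Oc724 : en.chk (appB tabs t48 0xffffff) (tst0 off 0 tst) 118827 1467 656672126420865613824 664657013481018644688 = true := by decide +kernel
theorem Oc725 : en.chk (appB tabs t48 0xffffff) (tst0 off 0 tst) 120294 1467 664657013481018644688 672743219734243521528 = true := by decide +kernel
theorem Oc726 : en.chk (appB tabs t48 0xffffff) (tst0 off 0 tst) 121761 1467 672743219734243521528 681032132312881404288 = true := by decide +kernel
theorem Oc727 : en.chk (appB tabs t48 0xffffff) (tst0 off 0 tst) 123228 1467 681032132312881404288 688875106083961349424 = true := by decide +kernel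
theorem Oc728 : en.chk (appB tabs t48 0xffffff) (tst0 off 0 tst) 124695 1467 688875106083961349424 696920795579992064976 = true := by decide +kernel
theorem Oc729 : en.chk (appB tabs t48 0xffffff) (tst0 off 0 tst) 126162 1467 696920795579992064976 704898933237821949576 = true := by decide +kernel
theorem Oc730 : en.chk (appB tabs t48 0xffffff) (tst0 off 0 tst) 127629 1467 704898933237821949576 713025665425510464624 = true := by decide +kernel
theorem Oc731 : en.chk (appB tabs t48 0xffffff) (tst0 off 0 tst) 129096 1467 713025665425510464624 721510440886378129368 = true := by decide +kernel
theorem Oc732 : en.chk (appB tabs t48 0xffffff) (tst0 off 0 tst) 130563 1467 721510440886378129368 729792590992166646960 = true := by decide +kernel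
theorem Oc733 : en.chk (appB tabs t48 0xffffff) (tst0 off 0 tst) 132030 1467 729792590992166646960 737932856490677162256 = true := by decide +kernel
theorem Oc734 : en.chk (appB tabs t48 0xffffff) (tst0 off 0 tst) 133497 1467 737932856490677162256 746437902514225611096 = true := by decide +kernel
theorem Oc735 : en.chk (appB tabs t48 0xffffff) (tst0 off 0 tst) 134964 1467 746437902514225611096 754868640044256845880 = true := by decide +kernel
theorem Oc736 : en.chk (appB tabs t48 0xffffff) (tst0 off 0 tst) 136431 1467 754868640044256845880 763319646517094209224 = true := by decide +kernel
theorem Oc737 : en.chk (appB tabs t48 0xffffff) (tst0 off 0 tst) 137898 1467 763319646517094209224 771372089823294289800 = true := by decide +kernel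
theorem Oc738 : en.chk (appB tabs t48 0xffffff) (tst0 off 0 tst) 139365 1467 771372089823294289800 779107012695583667472 = true := by decide +kernel
theorem Oc739 : en.chk (appB tabs t48 0xffffff) (tst0 off 0 tst) 140832 1467 779107012695583667472 786902738859393189888 = true := by decide +kernel

end Cfsg.Agent.CG.ON
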