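import Cfsg.Agent.Lib.Grp.ON.ODefs

set_option autoImplicit false
set_option maxRecDepth 100000
set_option Elab.async false
set_option linter.unusedSectionVars false

namespace Cfsg.Agent.CG.ON

theorem Oc740 : en.chk (appB tabs t48 0xffffff) (tst0 off 0 tst) 142299 1467 786902738859393189888 795259146279469003656 = true := by decide +kernel
theorem Oc741 : en.chk (appB tabs t48 0xffffff) (tst0 off 0 tst) 143766 1467 795259146279469003656 803034624509703027240 = true := by decide +kernel
theorem Oc742 : en.chk (appB tabs t48 0xffffff) (tst0 off 0 tst) 145233 1467 803034624509703027240 811127574085994008200 = true := by decide +kernel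
theorem Oc743 : en.chk (appB tabs t48 0xffffff) (tst0 off 0 tst) 146700 1467 811127574085994008200 819288125540615542728 = true := by decide +kernel
theorem Oc744 : en.chk (appB tabs t48 0xffffff) (tst0 off 0 tst) 148167 1467 819288125540615542728 827435137287466881096 = true := by decide +kernel
theorem Oc745 : en.chk (appB tabs t48 0xffffff) (tst0 off 0 tst) 149634 306 827435137287466881096 829286083529925127081 = true := by decide +kernel
theorem Oc746 : en1.chk (appB tabs t48 0xffffff) (tst1 off 0 19 tst) 0 1542 0 10259203135224 = true := by decide +kernel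
theorem Oc747 : en1.chk (appB tabs t48 0xffffff) (tst1 off 0 19 tst) 1542 1542 10259203135224 19878987975864 = true := by decide +kernel
theorem Oc748 : en1.chk (appB tabs t48 0xffffff) (tst1 off 0 19 tst) 3084 1542 19878987975864 29541861741624 = true := by decide +kernel
theorem Oc749 : en1.chk (appB tabs t48 0xffffff) (tst1 off 0 19 tst) 4626 1542 29541861741624 38482372276776 = true := by decide +kernel
theorem Oc750 : en1.chk (appB tabs t48 0xffffff) (tst1 off 0 19 tst) 6168 1542 38482372276776 46500001708992 = true := by decide +kernel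
theorem Oc751 : en1.chk (appB tabs t48 0xffffff) (tst1 off 0 19 tst) 7710 669 46500001708992 49426484325817 = true := by decide +kernel
theorem Oc752 : commAll (appB tabs t48 0xffffff) bs 17 cc = true := by decide +kernel
theorem Oc753 : offChk 24 (appB tabs t48 0xffffff) 15 19 off 0 20000 = true := by decide +kernel
theorem Oc754 : offChk 24 (appB tabs t48 0xffffff) 15 19 off 20000 20000 = true := by decide +kernel
theorem Oc755 : offChk 24 (appB tabs t48 0xffffff) 15 19 off 40000 20000 = true := by decide +kernel
theorem Oc756 : offChk 24 (appB tabs t48 0xffffff) 15 19 off 60000 20000 = true := by decide +kernel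
theorem Oc757 : offChk 24 (appB tabs t48 0xffffff) 15 19 off 80000 20000 = true := by decide +kernel
theorem Oc758 : offChk 24 (appB tabs t48 0xffffff) 15 19 off 100000 20000 = true := by decide +kernel
theorem Oc759 : offChk 24 (appB tabs t48 0xffffff) 15 19 off 120000 2760 = true := by decide +kernel
theorem Oc760 : relChk (appB tabs t48 0xffffff) bs 15 17 rT = true := by decide +kernel
theorem Oc761 : eqW (appB tabs t48 0xffffff) bs (substW img [0,1]) [] = true := by decide +kernel
theorem Oc762 : eqW (appB tabs t48 0xffffff) bs (substW img [2,2]) [] = true := by decide +kernel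
theorem Oc763 : eqW (appB tabs t48 0xffffff) bs (substW img [3,3]) [] = true := by decide +kernel
theorem Oc764 : eqW (appB tabs t48 0xffffff) bs (substW img [4,4]) [] = true := by decide +kernel
theorem Oc765 : eqW (appB tabs t48 0xffffff) bs (substW img [5,5]) [] = true := by decide +kernel
theorem Oc766 : eqW (appB tabs t48 0xffffff) bs (substW img [6,6]) [] = true := by decide +kernel
theorem Oc767 : eqW (appB tabs t48 0xffffff) bs (substW img [7,7]) [] = true := by decide +kernel
theorem Oc768 : eqW (appB tabs t48 0xffffff) bs (substW img [2,3,2,3,2,3]) [] = true := by decide +kernel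
theorem Oc769 : eqW (appB tabs t48 0xffffff) bs (substW img [2,4,2,4]) [] = true := by decide +kernel
theorem Oc770 : eqW (appB tabs t48 0xffffff) bs (substW img [2,5,2,5]) [] = true := by decide +kernel
theorem Oc771 : eqW (appB tabs t48 0xffffff) bs (substW img [2,6,2,6]) [] = true := by decide +kernel
theorem Oc772 : eqW (appB tabs t48 0xffffff) bs (substW img [2,7,2,7]) [] = true := by decide +kernel
theorem Oc773 : eqW (appB tabs t48 0xffffff) bs (substW img [3,4,3,4,3,4]) [] = true := by decide +kernel
theorem Oc774 : eqW (appB tabs t48 0xffffff) bs (substW img [3,5,3,5]) [] = true := by decide +kernel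
theorem Oc775 : eqW (appB tabs t48 0xffffff) bs (substW img [3,6,3,6]) [] = true := by decide +kernel
theorem Oc776 : eqW (appB tabs t48 0xffffff) bs (substW img [3,7,3,7]) [] = true := by decide +kernel
theorem Oc777 : eqW (appB tabs t48 0xffffff) bs (substW img [4,5,4,5,4,5,4,5,4,5,4,5,4,5,4,5]) [] = true := by decide +kernel
theorem Oc778 : eqW (appB tabs t48 0xffffff) bs (substW img [4,6,4,6]) [] = true := by decide +kernel
theorem Oc779 : eqW (appB tabs t48 0xffffff) bs (substW img [4,7,4,7]) [] = true := by decide +kernel
theorem Oc780 : eqW (appB tabs t48 0xffffff) bs (substW img [5,6,5,6,5,6]) [] = true := by decide +kernel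
theorem Oc781 : eqW (appB tabs t48 0xffffff) bs (substW img [5,7,5,7]) [] = true := by decide +kernel
theorem Oc782 : eqW (appB tabs t48 0xffffff) bs (substW img [6,7,6,7,6,7]) [] = true := by decide +kernel
theorem Oc783 : eqW (appB tabs t48 0xffffff) bs (substW img [2,7,1,1]) [] = true := by decide +kernel
theorem Oc784 : eqW (appB tabs t48 0xffffff) bs (substW img [2,7,5,4,5,4,5,4,5,4]) [] = true := by decide +kernel
theorem Oc785 : eqW (appB tabs t48 0xffffff) bs (substW img [4,1,5,1,5,4,5,0,5,0]) [] = true := by decide +kernel
theorem Oc786 : eqW (appB tabs t48 0xffffff) bs (substW img [5,1,4,1,4,5,4,0,4,0]) [] = true := by decide +kernel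
theorem Oc787 : eqW (appB tabs t48 0xffffff) bs (substW img [3,4,5,0,3,4,5,0,3,4,5,0,3,4,5,0,3,4,5,0]) [] = true := by decide +kernel
theorem Oc788 : eqW (appB tabs t48 0xffffff) bs (substW img [0,3,4,0,4,3,0,3,4,0,4]) [] = true := by decide +kernel
theorem Oc789 : eqW (appB tabs t48 0xffffff) bs (substW img [0,6,5,0,5,6,0,6,5,0,5]) [] = true := by decide +kernel
theorem Oc790 : slpImg (appB tabs t48 0xffffff) bs slp img 8 28 = true := by decide +kernel
theorem Oc791 : moveAll 24 (appB tabs t48 0xffffff) (inst2 15 17 [0,0,1]) 0 20000 = true := by decide +kernel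
theorem Oc792 : moveAll 24 (appB tabs t48 0xffffff) (inst2 15 17 [0,0,1]) 20000 20000 = true := by decide +kernel
theorem Oc793 : moveAll 24 (appB tabs t48 0xffffff) (inst2 15 17 [0,0,1]) 40000 20000 = true := by decide +kernel
theorem Oc794 : moveAll 24 (appB tabs t48 0xffffff) (inst2 15 17 [0,0,1]) 60000 20000 = true := by decide +kernel
theorem Oc795 : moveAll 24 (appB tabs t48 0xffffff) (inst2 15 17 [0,0,1]) 80000 20000 = true := by decide +kernel
theorem Oc796 : moveAll 24 (appB tabs t48 0xffffff) (inst2 15 17 [0,0,1]) 100000 20000 = true := by decide +kernel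
theorem Oc797 : moveAll 24 (appB tabs t48 0xffffff) (inst2 15 17 [0,0,1]) 120000 2760 = true := by decide +kernel

end Cfsg.Agent.CG.ON
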