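import Cfsg.Agent.Lib.Grp.ON.OD6
import Cfsg.Agent.Lib.Grp.ON.Defs

set_option autoImplicit false
set_option maxRecDepth 100000
set_option Elab.async false
set_option linter.unusedSectionVars false

namespace Cfsg.Agent.CG.ON

noncomputable def cc0c : Tr ℕ := (.node (.node (.node (.node (.leaf cc0c_0) (.leaf cc0c_8)) (.node (.leaf cc0c_4) (.leaf cc0c_12))) (.node (.node (.leaf cc0c_2) (.leaf cc0c_10)) (.node (.leaf cc0c_6) (.leaf cc0c_14)))) (.node (.node (.node (.leaf cc0c_1) (.leaf cc0c_9)) (.node (.leaf cc0c_5) (.leaf cc0c_13))) (.node (.node (.leaf cc0c_3) (.leaf cc0c_11)) (.leaf cc0c_7))))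
noncomputable def cc0p : Tr ℕ := (.node (.node (.node (.node (.leaf cc0p_0) (.leaf cc0p_8)) (.leaf cc0p_4)) (.node (.leaf cc0p_2) (.leaf cc0p_6))) (.node (.node (.node (.leaf cc0p_1) (.leaf cc0p_9)) (.leaf cc0p_5)) (.node (.leaf cc0p_3) (.leaf cc0p_7))))
noncomputable def cc0l : Tr ℕ := (.node (.node (.node (.leaf cc0l_0) (.leaf cc0l_4)) (.leaf cc0l_2)) (.node (.leaf cc0l_1) (.leaf cc0l_3)))
noncomputable def cc0i : Tr ℕ := (.node (.node (.node (.leaf cc0i_0) (.leaf cc0i_4)) (.leaf cc0i_2)) (.node (.leaf cc0i_1) (.leaf cc0i_3)))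
noncomputable def cc0q : Tr ℕ := (.node (.node (.node (.node (.node (.node (.leaf cc0q_0) (.leaf cc0q_32)) (.leaf cc0q_16)) (.node (.node (.leaf cc0q_8) (.leaf cc0q_40)) (.leaf cc0q_24))) (.node (.node (.node (.leaf cc0q_4) (.leaf cc0q_36)) (.leaf cc0q_20)) (.node (.node (.leaf cc0q_12) (.leaf cc0q_44)) (.leaf cc0q_28)))) (.node (.node (.node (.node (.leaf cc0q_2) (.leaf cc0q_34)) (.leaf cc0q_18)) (.node (.node (.leaf cc0q_10) (.leaf cc0q_42)) (.leaf cc0q_26))) (.node (.node (.node (.leaf cc0q_6) (.leaf cc0q_38)) (.leaf cc0q_22)) (.node (.leaf cc0q_14) (.leaf cc0q_30))))) (.node (.node (.node (.node (.node (.leaf cc0q_1) (.leaf cc0q_33)) (.leaf cc0q_17)) (.node (.node (.leaf cc0q_9) (.leaf cc0q_41)) (.leaf cc0q_25))) (.node (.node (.node (.leaf cc0q_5) (.leaf cc0q_37)) (.leaf cc0q_21)) (.node (.leaf cc0q_13) (.leaf cc0q_29)))) (.node (.node (.node (.node (.leaf cc0q_3) (.leaf cc0q_35)) (.leaf cc0q_19)) (.node (.node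 (.leaf cc0q_11) (.leaf cc0q_43)) (.leaf cc0q_27))) (.node (.node (.node (.leaf cc0q_7) (.leaf cc0q_39)) (.leaf cc0q_23)) (.node (.leaf cc0q_15) (.leaf cc0q_31))))))
noncomputable def cc1q : Tr ℕ := (.node (.node (.node (.node (.node (.node (.leaf cc1q_0) (.leaf cc1q_32)) (.leaf cc1q_16)) (.node (.node (.leaf cc1q_8) (.leaf cc1q_40)) (.leaf cc1q_24))) (.node (.node (.node (.leaf cc1q_4) (.leaf cc1q_36)) (.leaf cc1q_20)) (.node (.node (.leaf cc1q_12) (.leaf cc1q_44)) (.leaf cc1q_28)))) (.node (.node (.node (.node (.leaf cc1q_2) (.leaf cc1q_34)) (.leaf cc1q_18)) (.node (.node (.leaf cc1q_10) (.leaf cc1q_42)) (.leaf cc1q_26))) (.node (.node (.node (.leaf cc1q_6) (.leaf cc1q_38)) (.leaf cc1q_22)) (.node (.leaf cc1q_14) (.leaf cc1q_30))))) (.node (.node (.node (.node (.node (.leaf cc1q_1) (.leaf cc1q_33)) (.leaf cc1q_17)) (.node (.node (.leaf cc1q_9) (.leaf cc1q_41)) (.leaf cc1q_25))) (.node (.node (.node (.leaf cc1q_5)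 (.leaf cc1q_37)) (.leaf cc1q_21)) (.node (.leaf cc1q_13) (.leaf cc1q_29)))) (.node (.node (.node (.node (.leaf cc1q_3) (.leaf cc1q_35)) (.leaf cc1q_19)) (.node (.node (.leaf cc1q_11) (.leaf cc1q_43)) (.leaf cc1q_27))) (.node (.node (.node (.leaf cc1q_7) (.leaf cc1q_39)) (.leaf cc1q_23)) (.node (.leaf cc1q_15) (.leaf cc1q_31))))))
noncomputable def offT : Tr ℕ := (.node (.node (.node (.node (.node (.node (.leaf offT_0) (.leaf offT_32)) (.leaf offT_16)) (.node (.node (.leaf offT_8) (.leaf offT_40)) (.leaf offT_24))) (.node (.node (.node (.leaf offT_4) (.leaf offT_36)) (.leaf offT_20)) (.node (.node (.leaf offT_12) (.leaf offT_44)) (.leaf offT_28)))) (.node (.node (.node (.node (.leaf offT_2) (.leaf offT_34)) (.leaf offT_18)) (.node (.node (.leaf offT_10) (.leaf offT_42)) (.leaf offT_26))) (.node (.node (.node (.leaf offT_6) (.leaf offT_38)) (.leaf offT_22)) (.node (.leaf offT_14) (.leaf offT_30))))) (.node (.node (.node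 (.node (.node (.leaf offT_1) (.leaf offT_33)) (.leaf offT_17)) (.node (.node (.leaf offT_9) (.leaf offT_41)) (.leaf offT_25))) (.node (.node (.node (.leaf offT_5) (.leaf offT_37)) (.leaf offT_21)) (.node (.leaf offT_13) (.leaf offT_29)))) (.node (.node (.node (.node (.leaf offT_3) (.leaf offT_35)) (.leaf offT_19)) (.node (.node (.leaf offT_11) (.leaf offT_43)) (.leaf offT_27))) (.node (.node (.node (.leaf offT_7) (.leaf offT_39)) (.leaf offT_23)) (.node (.leaf offT_15) (.leaf offT_31))))))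
noncomputable def cc0 : Lvl := ⟨1512, [7,40,41,42,43,44], 40320,
  fun i => lk2 cc0c 0xffffff (Nat.mul 24 i), fun i => lk2 cc0p 0xffff (Nat.mul 16 i),
  fun i => lk2 cc0l 0xff (Nat.mul 8 i), fun i => lk2 cc0i 0xff (Nat.mul 8 i), fun x => lk2 cc0q 0xffffff x, 13⟩
noncomputable def cc1 : Lvl := ⟨120, [45,46], 4,
  fun i => look 0xffffff cc1c (Nat.mul 24 i), fun i => look 0xf cc1p (Nat.mul 4 i),
  fun i => look 0xff cc1l (Nat.mul 8 i), fun i => look 0xff cc1i (Nat.mul 8 i), fun x => lk2 cc1q 0xffffff x, 2⟩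
noncomputable def cc : List Lvl := [cc0, cc1]
noncomputable def pS : List ℕ := [10]
noncomputable def pQ : List (List ℕ) := [[],
  [10],
  [10,10]]
noncomputable def pR : List (List ℕ) := [[10]]
noncomputable def pF : List (List ℕ) := [[],
  [21,19,22,15,22,16,25,26,28,27,25,27,32,31,31,32],
  [18,20,15,23,16,19,15,29,25,25,27,27,24,26,35,32,32,31],
  [15,19,17,18,17,18,18,26,28,27,29,27,28,25,35,32],
  [21,23,15,19,16,19,27,28,26,25,25,29,31,32,30],
  [23,18,20,19,19,15,15,25,27,25,27,27,28,24,33,33,33],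
  [22,18,20,17,26,26,26,29,29,26,30,33,30],
  [20,18,18,20,17,15,28,26,29,26,29,25,29,30],
  [18,18,18,16,21,18,16,28,27,28,25,29,26,28,24,31,33,30,30],
  [22,17,18,17,16,19,27,28,25,28,24,26,24,33,33],
  [20,18,15,21,19,17,25,27,24,24,27,24,24,35,32,31],
  [19,23,16,21,22,15,28,24,27,25,27,24,24,31,33,30,30],
  [15,15,23,20,15,21,15,28,25,29,27,24,28,34],
  [20,20,15,18,15,15,26,24,28,27,25,29,26,24,32,30],
  [19,23,18,23,18,20,28,26,29,24,26,24,26,34,32,32,32],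
  [18,16,20,22,19,22,15,27,28,24,28,25,25,34,30],
  [22,15,21,18,20,15,28,28,24,28,27,29,31,31],
  [19,16,21,19,26,26,24,29,27,29,26,32,30,30],
  [20,22,22,16,22,17,26,24,29,24,24,29,24,24,30,30,33],
  [19,16,17,23,17,16,28,24,28,28,25,31,31,31],
  [23,18,15,15,15,23,25,27,25,29,31,33,30,30],
  [16,20,16,23,18,21,15,24,26,25,29,27,29,29,35,32],
  [22,15,18,16,21,18,28,25,28,25,27,29,24,31,32,30,30],
  [18,20,16,23,21,19,17,29,26,26,28,28,28,27,35,31,31,32],
  [15,18,15,22,22,15,15,25,29,26,29,26,26,25,27,31,32],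
  [19,21,23,15,23,18,20,25,26,28,25,25,28,34,32,32],
  [22,15,18,18,16,17,26,29,29,26,28,26,24,35,32,32],
  [22,20,19,17,28,25,27,29,25,27,27,34,30],
  [20,19,21,18,20,27,24,24,24,26,24,31,31,32],
  [17,22,20,17,18,21,15,26,25,26,25,26,24,24,31,32,32,32],
  [21,15,19,20,19,21,16,27,27,25,29,25,28,31,31,31,32],
  [22,18,16,21,19,28,27,27,29,24,28,33,30,30],
  [21,22,17,18,18,16,28,25,27,28,24,32,30,30],
  [22,22,20,17,20,15,29,25,26,26,26,24,24,35,31,31,31],
  [19,23,17,20,28,24,28,24,24,28,26,31,32,32],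
  [15,22,22,20,18,16,24,24,28,27,25,28,27,24,35,32,31,31],
  [20,18,16,19,22,17,15,27,28,26,26,28,24,24,34,32],
  [15,22,19,20,16,21,17,24,29,24,26,25,27,32,32,32,30],
  [16,21,16,22,19,25,28,26,24,26,29,26,35,32,32],
  [16,21,16,21,19,15,28,28,27,25,27,24,28,35,32,32,31],
  [18,15,21,17,16,19,25,29,29,29,26,34,32,32,32],
  [15,19,23,21,22,17,16,26,24,24,24,26,25,30,33,30,30],
  [15,15,23,16,22,18,29,24,27,27,29,25,29,31,32,30],
  [23,21,23,20,18,15,29,29,26,29,25,25],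
  [18,23,16,22,22,22,28,24,27,25,26,26,29,34,31,31,32],
  [20,18,15,21,21,19,16,25,28,24,28,25,27,31,33],
  [15,18,16,26,28,28,25,28,25,26,35,31],
  [16,19,16,21,16,21,18,26,25,28,25,25,26,24,30,30,33],
  [21,18,21,19,19,21,26,26,26,24,24,28,24,24,35,32,32,32],
  [20,22,16,19,20,24,29,24,27,28,27,27,24,31,31,31,31],
  [20,18,21,19,16,17,16,26,28,27,29,27,25,25,31,33,30],
  [22,16,17,23,20,29,24,24,29,25,26,35,32,31],
  [19,21,21,19,21,16,28,25,26,26,29,24,35,32,32],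
  [18,16,17,16,21,16,26,29,25,25,27,25,26,25,35],
  [21,15,21,21,16,16,28,26,25,28,24,24,30,33,33],
  [19,22,20,19,19,27,29,26,25,27,25,25,30,30],
  [23,15,23,20,22,18,16,26,24,29,25,25,27,24,34,32,32,31],
  [19,19,21,18,21,19,24,29,25,27,25,31,33,30],
  [20,19,16,23,20,24,24,26,26,28,26,28,30,30,30,30],
  [18,21,22,22,15,18,29,26,29,29,29,29,29,24,30,33,30,30],
  [16,20,17,23,23,18,24,27,29,25,25,26,24,34],
  [23,23,18,15,23,18,25,27,29,31,33],
  [19,22,16,19,19,15,25,25,25,25,28,24,34,31,31],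
  [22,19,16,16,20,18,15,25,26,29,26,24,28,25,31,32,31],
  [19,16,23,23,23,29,24,24,26,25,26,24,35,31,32],
  [20,16,23,23,18,21,16,28,25,29,24,27,24,27,35,31,32],
  [15,15,15,18,20,22,25,27,25,28,25,26,26,34],
  [19,20,22,16,20,25,28,25,25,25,27,27,30],
  [22,20,20,19,15,21,15,26,25,27,24,26,25,34,31,31,32],
  [21,21,21,18,16,22,15,26,24,27,29,24,34,32,31],
  [21,19,16,19,19,16,24,28,24,27,25,25,25,30,30],
  [18,15,15,23,23,21,27,28,26,29,24,26,28,35,32],
  [17,22,19,23,18,16,27,29,26,28,24,27],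
  [18,18,21,16,21,22,29,26,26,29,25,28,28,31,31],
  [20,19,15,22,20,19,29,25,29,25,31,31,31,31],
  [19,15,23,23,21,26,29,27,25,25,26,24,35,32,31],
  [21,21,19,17,18,17,27,29,26,26,29,27,28,31,33],
  [23,15,23,17,22,19,29,26,24,27,29,26,24,30,30,30],
  [17,18,15,18,29,26,29,27,25,27,34,31,31,32],
  [15,18,20,20,22,20,24,24,29,24,29,24,24,32,32,30],
  [16,22,17,23,23,21,15,27,25,26,24,29,26,24,34,31,31,32],
  [18,21,21,21,23,20,24,27,27,25,25,25,26,32,32,32],
  [20,22,17,15,15,21,26,28,27,29,24,28,25,32,32],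
  [16,21,18,20,18,15,27,25,29,25,26,26,25,31,32,30],
  [22,16,23,16,23,17,28,27,24,28,24,27,25,35,32,32],
  [15,17,20,15,19,22,15,26,25,25,28,24,27,28,35,32,32,32],
  [17,18,15,23,15,21,15,25,27,29,29,24,27,27,24,33,33,33,30],
  [21,16,21,15,17,23,15,28,26,25,28,26,24,24,31,31,31],
  [20,15,23,17,22,19,25,29,27,24,26,25,32,30,30,30],
  [22,17,22,22,22,15,29,27,29,24,27,25,26,32,32,32,30],
  [18,23,21,21,22,16,26,29,26,29,29,29,26,31,33,30],
  [22,20,19,19,22,17,24,27,25,28,25,28,24,31,32,31],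
  [16,19,19,23,21,21,26,29,25,28,26,29,25,31,32,32],
  [22,20,20,22,22,18,15,27,25,29,24,24,28,26,33],
  [22,16,20,19,16,20,15,28,26,26,25,26,25,26,32,30],
  [17,22,20,18,16,22,24,28,25,25,25,28,24,31,31,32],
  [16,23,17,16,17,29,29,29,26,28,27,25,31,33],
  [22,22,19,20,18,29,27,24,28,24,28,32,31],
  [18,20,18,18,20,19,26,29,26,25,25,27,28,31,33],
  [20,15,15,22,16,16,27,25,29,24,26,29,25,32,32,31],
  [20,18,23,20,17,27,29,27,29,27,24,33],
  [19,22,16,23,17,20,26,25,27,25,26,26,31,31,31],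
  [17,15,19,21,18,17,27,24,29,29,29,24,34,31,31],
  [21,18,16,20,19,21,15,29,26,29,29,29,24,26,25,31,33,30,30],
  [20,19,22,19,22,16,24,26,28,25,26,25,27,31,31,31,31],
  [19,22,19,21,19,17,29,24,28,24,28,28,28,31,31,31,31],
  [18,21,23,21,15,18,25,25,26,28,27,29,26,32],
  [18,18,17,22,27,29,25,26,25,25,30,33],
  [21,16,19,22,20,16,26,24,29,27,25,31,33,30],
  [16,22,16,20,20,15,25,25,26,25,25,28,26,24,35,32,32,32],
  [21,17,18,18,20,18,28,28,24,29,27,28,26,35,32,31,31],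
  [18,15,22,20,22,15,15,24,29,27,29,26,26,25,31,33,30],
  [15,18,18,20,18,21,25,25,26,28,24,24,24,32,30,30,30],
  [15,18,16,22,22,20,29,29,26,29,29,26,24,30,30],
  [17,22,22,20,16,17,15,26,26,26,25,29,26,33,30],
  [21,22,18,23,17,20,25,27,24,27,25,28,24,31,32,30,30],
  [15,19,20,16,19,15,28,28,26,25,25,26,24,32,32,32],
  [17,18,16,19,16,22,26,24,27,28,26,24,34,32,32,31],
  [22,16,22,16,20,17,29,26,26,25,26,26,26,31,32],
  [23,15,15,23,16,16,27,24,26,28,24,29,29,24,31,31,31,32],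
  [18,15,22,22,15,15,29,25,27,27,28,26,26,31,32,32],
  [16,19,19,15,15,27,27,25,28,26,31,31,32],
  [15,17,23,20,17,15,15,25,25,26,29,27,28,32,32,32],
  [21,23,21,21,22,20,15,27,25,26,28,28,25,25,33,33,30],
  [23,18,21,15,22,25,26,25,27,28,27,25,35,31],
  [23,21,21,21,19,23,25,27,24,29,24,27,25,33,30,30,30],
  [21,21,22,19,22,22,16,28,28,25,29,25,25,29,33,33,33,30],
  [17,18,15,15,17,20,26,28,28,27,29,26,24,32,31,31,32],
  [17,16,23,20,16,22,29,27,28,28,28,25,26,24,34],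
  [16,20,15,18,16,23,15,26,24,29,24,28,31,32,32,32],
  [16,21,22,18,20,16,25,27,27,28,24,27,27,24,34,31,31,31],
  [23,18,23,16,17,22,15,24,28,26,24,28,26,25,35],
  [18,16,22,16,22,22,18,27,24,28,25,27,24,33,30,30,30],
  [23,16,20,19,22,20,26,25,28,25,27,25,26,32,31,31],
  [15,17,22,16,23,26,25,29,29,24,24,26,32,32],
  [18,20,16,19,15,19,26,25,27,24,24,24,32,32,31],
  [23,16,21,19,16,22,29,24,24,26,28,24,29,33,33,30,30],
  [20,15,23,21,18,23,24,24,26,28,27,27,31,31,32],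
  [21,19,19,21,15,17,15,24,29,25,26,24,28,31,33,30,30],
  [23,17,20,22,18,15,27,29,24,28,25,26,24,24,34,32],
  [21,21,19,22,15,21,24,27,25,25,25,25,25,32,30],
  [15,23,23,23,20,15,27,28,27,24,24,24,31,33],
  [17,23,18,15,17,18,24,29,26,26,24,28,35,31,31,32],
  [17,20,19,21,19,17,29,26,25,29,27,29,25,34,31,31,31],
  [21,19,16,19,22,15,15,24,26,29,25,29,31],
  [20,16,19,23,15,15,21,27,24,27,27,29,27,35,32,32,32],
  [17,18,21,23,16,16,29,27,27,25,26,24,28,34,31,31],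
  [16,16,19,15,19,15,26,25,29,24,28,28,32,31,31,32],
  [16,20,16,19,20,16,24,27,29,29,27,25,26,24,35,32],
  [19,15,19,20,15,29,24,24,28,24,29,33,33,33],
  [16,20,18,23,20,18,25,25,27,25,25,27,27,34,31,31,32],
  [20,18,23,21,21,17,29,29,26,28,24,26,30],
  [20,16,16,22,18,17,28,24,24,24,28,30,33,30,30],
  [22,16,21,21,17,27,29,26,24,29,29,27,35,31,31,31],
  [22,15,17,16,23,24,26,25,25,25,28,28,33,33,33],
  [17,15,19,20,15,22,28,24,29,29,24,26,26,25,35,31],
  [15,17,22,22,17,22,15,29,27,29,26,24,24,27,31,31,31,32],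
  [21,22,16,17,22,16,25,26,25,27,29,24,34,32,32,31],
  [19,23,17,16,22,18,25,29,26,26,28,27,33,33,30,30],
  [23,23,20,16,22,17,25,27,28,24,27,25,31,33],
  [21,23,15,18,18,16,29,26,25,28,25,26,35,32,32,32],
  [18,23,20,19,21,17,26,26,29,29,26,24,26,30,33,33,30],
  [18,15,18,16,20,20,26,24,29,27,29,24,26,32,32,31],
  [18,20,22,22,22,18,16,25,25,27,24,29,27,35,31,31],
  [22,15,18,18,18,18,15,25,25,29,27,25,28,26,31,31,32,30],
  [19,22,17,18,17,15,27,25,28,27,27,29,26,24,30],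
  [23,17,18,20,15,17,27,28,28,27,24,26,28,31,32,32,32],
  [21,17,20,15,21,16,26,28,28,28,27,28,31,31,32,30],
  [21,23,23,20,15,23,15,26,29,29,26,28,31,32,31],
  [19,16,20,16,22,22,27,29,29,29,29,25,33,33],
  [20,17,23,18,15,15,27,25,27,27,29,27,35,31,32],
  [15,23,15,21,19,16,27,29,27,25,26,26,24,35,31,32],
  [18,20,20,22,18,17,24,29,29,24,26,24,24,31,32,30,30],
  [22,19,19,23,18,20,28,25,26,24,24,26,30,33,30,30],
  [22,19,16,19,19,21,16,24,29,29,27,25,25,30,30,33],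
  [20,15,18,23,20,18,24,27,29,24,27,29,34,32],
  [17,20,16,19,19,16,27,25,28,24,24,27,24,24,34,31,31],
  [16,21,18,20,15,17,26,25,27,29,24,26,24,33,33],
  [23,18,20,17,20,22,29,26,28,28,27,25,26,31,32,30],
  [21,23,20,19,21,23,25,26,26,24,26,25,31,31,32,30]]
noncomputable def pU : List (List ℕ) := [[10,36],
  [1,11,32,14,29],
  [1,13,8,5,1],
  [10,25,1,25],
  [1,13,1,11,5],
  [29,2,30,21],
  [34,2,22,14],
  [1,20,11,20,29],
  [5,25,3,32]]
noncomputable def aK : List ℕ := [15,36,38]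
noncomputable def nK : List (List ℕ × ℕ) := [([],0),
  ([],15),
  ([],36),
  ([19,21,23,23,16,19,15,28,27,25,28,27,27,28,33],36),
  ([],38),
  ([21,21,22,15,19,17,26,26,25,29,26,29,32,32,32],36),
  ([19,21,23,23,16,19,15,28,27,25,28,27,27,28,33],38),
  ([16,19,21,23,17,18,29,26,29,29,29,24,35,32],15),
  ([20,15,23,21,18,15,15,27,27,29,29,29,26,24,31,32,30,30],15),
  ([16,19,21,23,17,18,29,26,29,29,29,24,35,32],38),
  ([21,21,22,15,19,17,26,26,25,29,26,29,32,32,32],38),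
  ([19,21,23,23,16,19,15,28,27,25,28,27,27,28,33],15),
  ([21,21,22,15,19,17,26,26,25,29,26,29,32,32,32],15),
  ([20,15,23,21,18,15,15,27,27,29,29,29,26,24,31,32,30,30],38),
  ([16,19,21,23,17,18,29,26,29,29,29,24,35,32],36),
  ([18,20,19,16,21,15,15,25,29,27,25,29,25,29,32,32,32],38),
  ([20,15,23,21,18,15,15,27,27,29,29,29,26,24,31,32,30,30],36),
  ([18,20,19,16,21,15,15,25,29,27,25,29,25,29,32,32,32],36),
  ([18,20,19,16,21,15,15,25,29,27,25,29,25,29,32,32,32],15)]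
noncomputable def rT : List (List ℕ × ℕ) := [([0,1,0,1,0,1,0,1],1540992),
  ([0,1,0,1,0,1,0,1],1426608),
  ([0,0,0,1,0,1,0,0,0,1,0,1,0,0,0,1,0,1,0,0,0,1,0,1,0,0,0,1,0,1],2110152),
  ([0,0,1,0,0,1,0,0,1,0,0,1,0,0,1,0,0,1,0,0,1,0,0,1],1555632),
  ([0,0,0,1,0,1,0,0,1,0,0,0,1,0,1,0,0,1,0,0,0,1,0,1,0,0,1,0,0,0,1,0,1,0,0,1,0,0,0,1,0,1,0,0,1,0,0,0,1,0,1,0,0,1,0,0,0,1,0,1,0,0,1,0,0,0,1,0,1,0,0,1],1368624)]
noncomputable def uu : List (List ℕ) := [[]]
noncomputable def wT : Tr ℕ := (.node (.node (.node (.node (.node (.node (.node (.node (.leaf wx0) (.leaf wx128)) (.leaf wx64)) (.node (.leaf wx32) (.leaf wx96))) (.node (.node (.node (.leaf wx16) (.leaf wx144)) (.leaf wx80)) (.node (.leaf wx48) (.leaf wx112)))) (.node (.node (.node (.node (.leaf wx8) (.leaf wx136)) (.leaf wx72)) (.node (.leaf wx40) (.leaf wx104))) (.node (.node (.leaf wx24) (.leaf wx88)) (.node (.leaf wx56) (.leaf wx120))))) (.node (.node (.node (.node (.node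 (.leaf wx4) (.leaf wx132)) (.leaf wx68)) (.node (.leaf wx36) (.leaf wx100))) (.node (.node (.leaf wx20) (.leaf wx84)) (.node (.leaf wx52) (.leaf wx116)))) (.node (.node (.node (.node (.leaf wx12) (.leaf wx140)) (.leaf wx76)) (.node (.leaf wx44) (.leaf wx108))) (.node (.node (.leaf wx28) (.leaf wx92)) (.node (.leaf wx60) (.leaf wx124)))))) (.node (.node (.node (.node (.node (.node (.leaf wx2) (.leaf wx130)) (.leaf wx66)) (.node (.leaf wx34) (.leaf wx98))) (.node (.node (.node (.leaf wx18) (.leaf wx146)) (.leaf wx82)) (.node (.leaf wx50) (.leaf wx114)))) (.node (.node (.node (.node (.leaf wx10) (.leaf wx138)) (.leaf wx74)) (.node (.leaf wx42) (.leaf wx106))) (.node (.node (.leaf wx26) (.leaf wx90)) (.node (.leaf wx58) (.leaf wx122))))) (.node (.node (.node (.node (.node (.leaf wx6) (.leaf wx134)) (.leaf wx70)) (.node (.leaf wx38) (.leaf wx102))) (.node (.node (.leaf wx22) (.leaf wx86)) (.node (.leaf wx54) (.leaf wx118))))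 (.node (.node (.node (.node (.leaf wx14) (.leaf wx142)) (.leaf wx78)) (.node (.leaf wx46) (.leaf wx110))) (.node (.node (.leaf wx30) (.leaf wx94)) (.node (.leaf wx62) (.leaf wx126))))))) (.node (.node (.node (.node (.node (.node (.node (.leaf wx1) (.leaf wx129)) (.leaf wx65)) (.node (.leaf wx33) (.leaf wx97))) (.node (.node (.node (.leaf wx17) (.leaf wx145)) (.leaf wx81)) (.node (.leaf wx49) (.leaf wx113)))) (.node (.node (.node (.node (.leaf wx9) (.leaf wx137)) (.leaf wx73)) (.node (.leaf wx41) (.leaf wx105))) (.node (.node (.leaf wx25) (.leaf wx89)) (.node (.leaf wx57) (.leaf wx121))))) (.node (.node (.node (.node (.node (.leaf wx5) (.leaf wx133)) (.leaf wx69)) (.node (.leaf wx37) (.leaf wx101))) (.node (.node (.leaf wx21) (.leaf wx85)) (.node (.leaf wx53) (.leaf wx117)))) (.node (.node (.node (.node (.leaf wx13) (.leaf wx141)) (.leaf wx77)) (.node (.leaf wx45) (.leaf wx109))) (.node (.node (.leaf wx29) (.leaf wx93))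 (.node (.leaf wx61) (.leaf wx125)))))) (.node (.node (.node (.node (.node (.node (.leaf wx3) (.leaf wx131)) (.leaf wx67)) (.node (.leaf wx35) (.leaf wx99))) (.node (.node (.leaf wx19) (.leaf wx83)) (.node (.leaf wx51) (.leaf wx115)))) (.node (.node (.node (.node (.leaf wx11) (.leaf wx139)) (.leaf wx75)) (.node (.leaf wx43) (.leaf wx107))) (.node (.node (.leaf wx27) (.leaf wx91)) (.node (.leaf wx59) (.leaf wx123))))) (.node (.node (.node (.node (.node (.leaf wx7) (.leaf wx135)) (.leaf wx71)) (.node (.leaf wx39) (.leaf wx103))) (.node (.node (.leaf wx23) (.leaf wx87)) (.node (.leaf wx55) (.leaf wx119)))) (.node (.node (.node (.node (.leaf wx15) (.leaf wx143)) (.leaf wx79)) (.node (.leaf wx47) (.leaf wx111))) (.node (.node (.leaf wx31) (.leaf wx95)) (.node (.leaf wx63) (.leaf wx127))))))))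
noncomputable def en : Enum := ⟨inv, 8, 255, 6, fun i => force (Nat.shiftRight i 10) fun c => look 0xffffffffffff (wT.get c) (Nat.mul 48 (Nat.land i 1023)), 17, [79296,1111656,2103648], 16777216⟩
noncomputable def wT1 : Tr ℕ := (.node (.node (.node (.node (.leaf w1x0) (.leaf w1x8)) (.leaf w1x4)) (.node (.leaf w1x2) (.leaf w1x6))) (.node (.node (.leaf w1x1) (.leaf w1x5)) (.node (.leaf w1x3) (.leaf w1x7))))
noncomputable def en1 : Enum := ⟨inv, 8, 255, 6, fun i => force (Nat.shiftRight i 10) fun c => look 0xffffffffffff (wT1.get c) (Nat.mul 48 (Nat.land i 1023)), 17, [1615752,1873152], 16777216⟩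
noncomputable def off (x : ℕ) : ℕ := lk2 offT 0xffffff x
noncomputable def tst : (ℕ → ℕ) → Bool := outTest (appB tabs t48 0xffffff) bs aK rT [(15, 17), (15, 47)] uu
noncomputable def imgL : List (List ℕ) := [[22,17,16,22,18,28,28,26,26,29,25,28,34,32],
  [18,21,18,20,15,21,29,25,27,24,29,33,33,33],
  [15,23,15,15,23,17,26,25,28,25,29,27,29,34,31,31,31],
  [22,16,17,18,21,15,27,24,28,25,25,27,25,30,30,30],
  [17,22,19,17,20,18,26,25,26,29,29,27,25,30],
  [22,19,21,16,20,18,26,29,26,24,28,24,27,24,31,31,31],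
  [15,15,23,21,18,27,27,28,25,28,24,30,33,33],
  [16,22,19,21,22,20,16,27,24,26,28,25,29,24,33,30],
  [16,22,19,22,15,27,29,27,27,25,29,24,31,32,30],
  [23,23,15,18,16,20,28,24,28,24,24,29,24,35,31,31],
  [16,21,23,15,19,21,16,26,29,26,26,25,27,24,24,31,32,32,32],
  [22,18,21,19,16,20,29,25,26,24,28,25,26,35,32,32,32],
  [15,23,15,15,23,17,26,25,28,25,29,27,29,34,31,31,31],
  [15],
  [16],
  [15],
  [16],
  [16,22,22,15,23,23,15,25,29,24,29,24,29,25,33],
  [19,15,22,18,17,16,27,24,28,26,24,24,27,24,31,32,30],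
  [15,19,17,20,20,15,15,29,25,26,28,28,24,34,32,32],
  [16,23,20,20,22,17,27,27,25,28,26,24,24,35,31,31,32],
  [16,23,18,23,21,15,29,25,29,27,24,34,31],
  [23,15,22,15,23,15,29,29,27,27,29,35,32,31],
  [17,23,16,17,22,18,20,26,24,26,29,29,25,31,31],
  [23,17,23,16,20,18,15,24,26,25,28,26,25,30,33,33,30],
  [17,22,16,21,19,27,28,25,25,26,24,28,35,31,31,31],
  [18,15,18,23,21,22,15,27,28,27,25,29,25,25,31],
  [22,19,20,15,19,24,28,28,28,26,26,32,32,32],
  [21,16,19,22,20,20,27,27,29,24,26,28,33,33,30,30],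
  [23,21,22,22,19,17,26,26,25,28,26,25,27,24,31,32,30,30],
  [18,20,22,17,15,15,25,27,28,24,27,25,26,24,30,30,33],
  [18,21,22,17,23,23,24,27,29,29,25,26,30,30,30,30],
  [18,16,19,16,22,26,25,29,29,27,24,24,32,31,31],
  [23,23,21,15,15,17,29,25,25,32],
  [16,19,17,23,20,15,29,24,28,26,24,28,28,35,31,31,32],
  [21,22,17,20,18,29,27,24,28,26,29,26,34,31,31,32]]
noncomputable def img (a : ℕ) : List ℕ := nth imgL [] a
noncomputable def nQ : List (List ℕ) := [[],
  [1,0,1,0,0,1,0,0,0,0,1,0,0,0,1,0,0,0,1,0,0],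
  [0,1,0,0,0,0,0,0,0,0,1,0,0,0,0,0,0,1,0,1,0,0,1]]

end Cfsg.Agent.CG.ON
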