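import Cfsg.Agent.Lib.Grp.ON.OC0
import Cfsg.Agent.Lib.Grp.ON.OC1
import Cfsg.Agent.Lib.Grp.ON.OC2
import Cfsg.Agent.Lib.Grp.ON.OC3
import Cfsg.Agent.Lib.Grp.ON.OC4
import Cfsg.Agent.Lib.Grp.ON.OC5
import Cfsg.Agent.Lib.Grp.ON.OC6
import Cfsg.Agent.Lib.Grp.ON.OC7
import Cfsg.Agent.Lib.Grp.ON.Main

set_option autoImplicit false
set_option maxRecDepth 100000
set_option Elab.async false
set_option linter.unusedSectionVars false

namespace Cfsg.Agent.CG.ON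

theorem chainC : ChainOK act cc [] :=
  chainOK_of_chk act cc [] (by simp) (okc_of_okcb Oc563) Oc564
  (allL_cons (rapp (cc0.chk (appB tabs t48 0xffffff)) (fun _ _ _ => Lvl.chk_append) 40319 (rapp (cc0.chk (appB tabs t48 0xffffff)) (fun _ _ _ => Lvl.chk_append) 40000 Oc559 Oc560 rfl rfl) Oc561 rfl rfl) (allL_cons Oc562 (allL_nil _)))

variable [hb : Fact (Bounds tcR tcS 460815505920)]
include hb

theorem cardP : Nat.card (cl act.gen pS) = 5 ^ 1 :=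
  card_cl_singleton base (by norm_num) (by decide +kernel) (by decide +kernel)

theorem centP : ∀ g ∈ Subgroup.centralizer (cl act.gen pS : Set PG), ∃ φ ∈ pF, g = ev act.gen φ :=
  centralizer_subset (l := mc0) (L := [mc1, mc2]) chain card_le base (Q := pQ) (Rf := pR) (by decide +kernel) (by decide +kernel) (by decide +kernel)
    (rapp (trChk (appB tabs t48 0xffffff) mc0 [mc1, mc2] bs (diagQ pQ) (diagQ pR) pF) (fun _ _ _ => trChk_append) 122760 (rapp (trChk (appB tabs t48 0xffffff) mc0 [mc1, mc2] bs (diagQ pQ) (diagQ pR) pF) (fun _ _ _ => trChk_append) 121575 (rapp (trChk (appB tabs t48 0xffffff) mc0 [mc1, mc2] bs (diagQ pQ) (diagQ pR) pF) (fun _ _ _ => trChk_append) 119954 (rapp (trChk (appB tabs t48 0xffffff) mc0 [mc1, mc2] bs (diagQ pQ) (diagQ pR) pF) (fun _ _ _ => trChk_append) 118333 (rapp (trChk (appB tabs t48 0xffffff) mc0 [mc1, mc2] bs (diagQ pQ) (diagQ pR) pF) (fun _ _ _ => trChk_append)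 116712 (rapp (trChk (appB tabs t48 0xffffff) mc0 [mc1, mc2] bs (diagQ pQ) (diagQ pR) pF) (fun _ _ _ => trChk_append) 115091 (rapp (trChk (appB tabs t48 0xffffff) mc0 [mc1, mc2] bs (diagQ pQ) (diagQ pR) pF) (fun _ _ _ => trChk_append) 113470 (rapp (trChk (appB tabs t48 0xffffff) mc0 [mc1, mc2] bs (diagQ pQ) (diagQ pR) pF) (fun _ _ _ => trChk_append) 111849 (rapp (trChk (appB tabs t48 0xffffff) mc0 [mc1, mc2] bs (diagQ pQ) (diagQ pR) pF) (fun _ _ _ => trChk_append) 110228 (rapp (trChk (appB tabs t48 0xffffff) mc0 [mc1, mc2] bs (diagQ pQ) (diagQ pR) pF) (fun _ _ _ => trChk_append) 108607 (rapp (trChk (appB tabs t48 0xffffff) mc0 [mc1, mc2] bs (diagQ pQ) (diagQ pR) pF) (fun _ _ _ => trChk_append) 106986 (rapp (trChk (appB tabs t48 0xffffff) mc0 [mc1, mc2] bs (diagQ pQ) (diagQ pR) pF) (fun _ _ _ => trChk_append) 105365 (rapp (trChk (appB tabs t48 0xffffff) mc0 [mc1, mc2] bs (diagQ pQ) (diagQ pR)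 pF) (fun _ _ _ => trChk_append) 103744 (rapp (trChk (appB tabs t48 0xffffff) mc0 [mc1, mc2] bs (diagQ pQ) (diagQ pR) pF) (fun _ _ _ => trChk_append) 102123 (rapp (trChk (appB tabs t48 0xffffff) mc0 [mc1, mc2] bs (diagQ pQ) (diagQ pR) pF) (fun _ _ _ => trChk_append) 100502 (rapp (trChk (appB tabs t48 0xffffff) mc0 [mc1, mc2] bs (diagQ pQ) (diagQ pR) pF) (fun _ _ _ => trChk_append) 98881 (rapp (trChk (appB tabs t48 0xffffff) mc0 [mc1, mc2] bs (diagQ pQ) (diagQ pR) pF) (fun _ _ _ => trChk_append) 97260 (rapp (trChk (appB tabs t48 0xffffff) mc0 [mc1, mc2] bs (diagQ pQ) (diagQ pR) pF) (fun _ _ _ => trChk_append) 95639 (rapp (trChk (appB tabs t48 0xffffff) mc0 [mc1, mc2] bs (diagQ pQ) (diagQ pR) pF) (fun _ _ _ => trChk_append) 94018 (rapp (trChk (appB tabs t48 0xffffff) mc0 [mc1, mc2] bs (diagQ pQ) (diagQ pR) pF) (fun _ _ _ => trChk_append) 92397 (rapp (trChk (appB tabs t48 0xffffff) mc0 [mc1, mc2]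 bs (diagQ pQ) (diagQ pR) pF) (fun _ _ _ => trChk_append) 90776 (rapp (trChk (appB tabs t48 0xffffff) mc0 [mc1, mc2] bs (diagQ pQ) (diagQ pR) pF) (fun _ _ _ => trChk_append) 89155 (rapp (trChk (appB tabs t48 0xffffff) mc0 [mc1, mc2] bs (diagQ pQ) (diagQ pR) pF) (fun _ _ _ => trChk_append) 87534 (rapp (trChk (appB tabs t48 0xffffff) mc0 [mc1, mc2] bs (diagQ pQ) (diagQ pR) pF) (fun _ _ _ => trChk_append) 85913 (rapp (trChk (appB tabs t48 0xffffff) mc0 [mc1, mc2] bs (diagQ pQ) (diagQ pR) pF) (fun _ _ _ => trChk_append) 84292 (rapp (trChk (appB tabs t48 0xffffff) mc0 [mc1, mc2] bs (diagQ pQ) (diagQ pR) pF) (fun _ _ _ => trChk_append) 82671 (rapp (trChk (appB tabs t48 0xffffff) mc0 [mc1, mc2] bs (diagQ pQ) (diagQ pR) pF) (fun _ _ _ => trChk_append) 81050 (rapp (trChk (appB tabs t48 0xffffff) mc0 [mc1, mc2] bs (diagQ pQ) (diagQ pR) pF) (fun _ _ _ => trChk_append) 79429 (rapp (trChk (appB tabs t48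 0xffffff) mc0 [mc1, mc2] bs (diagQ pQ) (diagQ pR) pF) (fun _ _ _ => trChk_append) 77808 (rapp (trChk (appB tabs t48 0xffffff) mc0 [mc1, mc2] bs (diagQ pQ) (diagQ pR) pF) (fun _ _ _ => trChk_append) 76187 (rapp (trChk (appB tabs t48 0xffffff) mc0 [mc1, mc2] bs (diagQ pQ) (diagQ pR) pF) (fun _ _ _ => trChk_append) 74566 (rapp (trChk (appB tabs t48 0xffffff) mc0 [mc1, mc2] bs (diagQ pQ) (diagQ pR) pF) (fun _ _ _ => trChk_append) 72945 (rapp (trChk (appB tabs t48 0xffffff) mc0 [mc1, mc2] bs (diagQ pQ) (diagQ pR) pF) (fun _ _ _ => trChk_append) 71324 (rapp (trChk (appB tabs t48 0xffffff) mc0 [mc1, mc2] bs (diagQ pQ) (diagQ pR) pF) (fun _ _ _ => trChk_append) 69703 (rapp (trChk (appB tabs t48 0xffffff) mc0 [mc1, mc2] bs (diagQ pQ) (diagQ pR) pF) (fun _ _ _ => trChk_append) 68082 (rapp (trChk (appB tabs t48 0xffffff) mc0 [mc1, mc2] bs (diagQ pQ) (diagQ pR) pF) (fun _ _ _ => trChk_append) 66461 (rapp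 (trChk (appB tabs t48 0xffffff) mc0 [mc1, mc2] bs (diagQ pQ) (diagQ pR) pF) (fun _ _ _ => trChk_append) 64840 (rapp (trChk (appB tabs t48 0xffffff) mc0 [mc1, mc2] bs (diagQ pQ) (diagQ pR) pF) (fun _ _ _ => trChk_append) 63219 (rapp (trChk (appB tabs t48 0xffffff) mc0 [mc1, mc2] bs (diagQ pQ) (diagQ pR) pF) (fun _ _ _ => trChk_append) 61598 (rapp (trChk (appB tabs t48 0xffffff) mc0 [mc1, mc2] bs (diagQ pQ) (diagQ pR) pF) (fun _ _ _ => trChk_append) 59977 (rapp (trChk (appB tabs t48 0xffffff) mc0 [mc1, mc2] bs (diagQ pQ) (diagQ pR) pF) (fun _ _ _ => trChk_append) 58356 (rapp (trChk (appB tabs t48 0xffffff) mc0 [mc1, mc2] bs (diagQ pQ) (diagQ pR) pF) (fun _ _ _ => trChk_append) 56735 (rapp (trChk (appB tabs t48 0xffffff) mc0 [mc1, mc2] bs (diagQ pQ) (diagQ pR) pF) (fun _ _ _ => trChk_append) 55114 (rapp (trChk (appB tabs t48 0xffffff) mc0 [mc1, mc2] bs (diagQ pQ) (diagQ pR) pF) (fun _ _ _ => trChk_append)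 53493 (rapp (trChk (appB tabs t48 0xffffff) mc0 [mc1, mc2] bs (diagQ pQ) (diagQ pR) pF) (fun _ _ _ => trChk_append) 51872 (rapp (trChk (appB tabs t48 0xffffff) mc0 [mc1, mc2] bs (diagQ pQ) (diagQ pR) pF) (fun _ _ _ => trChk_append) 50251 (rapp (trChk (appB tabs t48 0xffffff) mc0 [mc1, mc2] bs (diagQ pQ) (diagQ pR) pF) (fun _ _ _ => trChk_append) 48630 (rapp (trChk (appB tabs t48 0xffffff) mc0 [mc1, mc2] bs (diagQ pQ) (diagQ pR) pF) (fun _ _ _ => trChk_append) 47009 (rapp (trChk (appB tabs t48 0xffffff) mc0 [mc1, mc2] bs (diagQ pQ) (diagQ pR) pF) (fun _ _ _ => trChk_append) 45388 (rapp (trChk (appB tabs t48 0xffffff) mc0 [mc1, mc2] bs (diagQ pQ) (diagQ pR) pF) (fun _ _ _ => trChk_append) 43767 (rapp (trChk (appB tabs t48 0xffffff) mc0 [mc1, mc2] bs (diagQ pQ) (diagQ pR) pF) (fun _ _ _ => trChk_append) 42146 (rapp (trChk (appB tabs t48 0xffffff) mc0 [mc1, mc2] bs (diagQ pQ) (diagQ pR) pF) (fun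 _ _ _ => trChk_append) 40525 (rapp (trChk (appB tabs t48 0xffffff) mc0 [mc1, mc2] bs (diagQ pQ) (diagQ pR) pF) (fun _ _ _ => trChk_append) 38904 (rapp (trChk (appB tabs t48 0xffffff) mc0 [mc1, mc2] bs (diagQ pQ) (diagQ pR) pF) (fun _ _ _ => trChk_append) 37283 (rapp (trChk (appB tabs t48 0xffffff) mc0 [mc1, mc2] bs (diagQ pQ) (diagQ pR) pF) (fun _ _ _ => trChk_append) 35662 (rapp (trChk (appB tabs t48 0xffffff) mc0 [mc1, mc2] bs (diagQ pQ) (diagQ pR) pF) (fun _ _ _ => trChk_append) 34041 (rapp (trChk (appB tabs t48 0xffffff) mc0 [mc1, mc2] bs (diagQ pQ) (diagQ pR) pF) (fun _ _ _ => trChk_append) 32420 (rapp (trChk (appB tabs t48 0xffffff) mc0 [mc1, mc2] bs (diagQ pQ) (diagQ pR) pF) (fun _ _ _ => trChk_append) 30799 (rapp (trChk (appB tabs t48 0xffffff) mc0 [mc1, mc2] bs (diagQ pQ) (diagQ pR) pF) (fun _ _ _ => trChk_append) 29178 (rapp (trChk (appB tabs t48 0xffffff) mc0 [mc1, mc2] bs (diagQ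 pQ) (diagQ pR) pF) (fun _ _ _ => trChk_append) 27557 (rapp (trChk (appB tabs t48 0xffffff) mc0 [mc1, mc2] bs (diagQ pQ) (diagQ pR) pF) (fun _ _ _ => trChk_append) 25936 (rapp (trChk (appB tabs t48 0xffffff) mc0 [mc1, mc2] bs (diagQ pQ) (diagQ pR) pF) (fun _ _ _ => trChk_append) 24315 (rapp (trChk (appB tabs t48 0xffffff) mc0 [mc1, mc2] bs (diagQ pQ) (diagQ pR) pF) (fun _ _ _ => trChk_append) 22694 (rapp (trChk (appB tabs t48 0xffffff) mc0 [mc1, mc2] bs (diagQ pQ) (diagQ pR) pF) (fun _ _ _ => trChk_append) 21073 (rapp (trChk (appB tabs t48 0xffffff) mc0 [mc1, mc2] bs (diagQ pQ) (diagQ pR) pF) (fun _ _ _ => trChk_append) 19452 (rapp (trChk (appB tabs t48 0xffffff) mc0 [mc1, mc2] bs (diagQ pQ) (diagQ pR) pF) (fun _ _ _ => trChk_append) 17831 (rapp (trChk (appB tabs t48 0xffffff) mc0 [mc1, mc2] bs (diagQ pQ) (diagQ pR) pF) (fun _ _ _ => trChk_append) 16210 (rapp (trChk (appB tabs t48 0xffffff)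 mc0 [mc1, mc2] bs (diagQ pQ) (diagQ pR) pF) (fun _ _ _ => trChk_append) 14589 (rapp (trChk (appB tabs t48 0xffffff) mc0 [mc1, mc2] bs (diagQ pQ) (diagQ pR) pF) (fun _ _ _ => trChk_append) 12968 (rapp (trChk (appB tabs t48 0xffffff) mc0 [mc1, mc2] bs (diagQ pQ) (diagQ pR) pF) (fun _ _ _ => trChk_append) 11347 (rapp (trChk (appB tabs t48 0xffffff) mc0 [mc1, mc2] bs (diagQ pQ) (diagQ pR) pF) (fun _ _ _ => trChk_append) 9726 (rapp (trChk (appB tabs t48 0xffffff) mc0 [mc1, mc2] bs (diagQ pQ) (diagQ pR) pF) (fun _ _ _ => trChk_append) 8105 (rapp (trChk (appB tabs t48 0xffffff) mc0 [mc1, mc2] bs (diagQ pQ) (diagQ pR) pF) (fun _ _ _ => trChk_append) 6484 (rapp (trChk (appB tabs t48 0xffffff) mc0 [mc1, mc2] bs (diagQ pQ) (diagQ pR) pF) (fun _ _ _ => trChk_append) 4863 (rapp (trChk (appB tabs t48 0xffffff) mc0 [mc1, mc2] bs (diagQ pQ) (diagQ pR) pF) (fun _ _ _ => trChk_append) 3242 Oc565 Oc566 rfl rfl)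 Oc567 rfl rfl) Oc568 rfl rfl) Oc569 rfl rfl) Oc570 rfl rfl) Oc571 rfl rfl) Oc572 rfl rfl) Oc573 rfl rfl) Oc574 rfl rfl) Oc575 rfl rfl) Oc576 rfl rfl) Oc577 rfl rfl) Oc578 rfl rfl) Oc579 rfl rfl) Oc580 rfl rfl) Oc581 rfl rfl) Oc582 rfl rfl) Oc583 rfl rfl) Oc584 rfl rfl) Oc585 rfl rfl) Oc586 rfl rfl) Oc587 rfl rfl) Oc588 rfl rfl) Oc589 rfl rfl) Oc590 rfl rfl) Oc591 rfl rfl) Oc592 rfl rfl) Oc593 rfl rfl) Oc594 rfl rfl) Oc595 rfl rfl) Oc596 rfl rfl) Oc597 rfl rfl) Oc598 rfl rfl) Oc599 rfl rfl) Oc600 rfl rfl) Oc601 rfl rfl) Oc602 rfl rfl) Oc603 rfl rfl) Oc604 rfl rfl) Oc605 rfl rfl) Oc606 rfl rfl) Oc607 rfl rfl) Oc608 rfl rfl) Oc609 rfl rfl) Oc610 rfl rfl) Oc611 rfl rfl) Oc612 rfl rfl) Oc613 rfl rfl) Oc614 rfl rfl) Oc615 rfl rfl) Oc616 rfl rfl) Oc617 rfl rfl) Oc618 rfl rfl) Oc619 rfl rfl) Oc620 rfl rfl) Oc621 rfl rfl) Oc622 rfl rfl) Oc623 rfl rfl) Oc624 rfl rfl) Oc625 rfl rfl) Oc626 rfl rfl) Oc627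 rfl rfl) Oc628 rfl rfl) Oc629 rfl rfl) Oc630 rfl rfl) Oc631 rfl rfl) Oc632 rfl rfl) Oc633 rfl rfl) Oc634 rfl rfl) Oc635 rfl rfl) Oc636 rfl rfl) Oc637 rfl rfl) Oc638 rfl rfl) Oc639 rfl rfl) Oc640 rfl rfl)

theorem autT (φ : MulAut PG) : ∃ g : PG, φ (act.gen 17) = g * act.gen 17 * g⁻¹ :=
  aut_class base (r := 5) (by norm_num) cardP (not_dvd_of_eq card (by decide +kernel)) centP
    Oc641 φ

theorem autA (φ : MulAut PG) : ∃ g : PG, ∃ a' ∈ aK, g * φ (act.gen 15) * g⁻¹ = act.gen a' :=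
  aut_pow base (p := 19) (by norm_num) (not_dvd_of_eq card (by decide +kernel))
    Oc642 φ

theorem enumOK : en.OK app (tst0 off 0 tst) 0 149940 0 829286083529925127081 :=
  (Enum.OK.append (Enum.OK.append (Enum.OK.append (Enum.OK.append (Enum.OK.append (Enum.OK.append (Enum.OK.append (Enum.OK.append (Enum.OK.append (Enum.OK.append (Enum.OK.append (Enum.OK.append (Enum.OK.append (Enum.OK.append (Enum.OK.append (Enum.OK.append (Enum.OK.append (Enum.OK.append (Enum.OK.append (Enum.OK.append (Enum.OK.append (Enum.OK.append (Enum.OK.append (Enum.OK.append (Enum.OK.append (Enum.OK.append (Enum.OK.append (Enum.OK.append (Enum.OK.append (Enum.OK.append (Enum.OK.append (Enum.OK.append (Enum.OK.append (Enum.OK.append (Enum.OK.append (Enum.OK.append (Enum.OK.append (Enum.OK.append (Enum.OK.append (Enum.OK.append (Enum.OK.append (Enum.OK.append (Enum.OK.append (Enum.OK.append (Enum.OK.append (Enum.OK.append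 (Enum.OK.append (Enum.OK.append (Enum.OK.append (Enum.OK.append (Enum.OK.append (Enum.OK.append (Enum.OK.append (Enum.OK.append (Enum.OK.append (Enum.OK.append (Enum.OK.append (Enum.OK.append (Enum.OK.append (Enum.OK.append (Enum.OK.append (Enum.OK.append (Enum.OK.append (Enum.OK.append (Enum.OK.append (Enum.OK.append (Enum.OK.append (Enum.OK.append (Enum.OK.append (Enum.OK.append (Enum.OK.append (Enum.OK.append (Enum.OK.append (Enum.OK.append (Enum.OK.append (Enum.OK.append (Enum.OK.append (Enum.OK.append (Enum.OK.append (Enum.OK.append (Enum.OK.append (Enum.OK.append (Enum.OK.append (Enum.OK.append (Enum.OK.append (Enum.OK.append (Enum.OK.append (Enum.OK.append (Enum.OK.append (Enum.OK.append (Enum.OK.append (Enum.OK.append (Enum.OK.append (Enum.OK.append (Enum.OK.append (Enum.OK.append (Enum.OK.append (Enum.OK.append (Enum.OK.append (Enum.OK.append (Enum.OK.append (Enum.OK.append (Enum.ok_of_chk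 Oc643)
  (Enum.ok_of_chk Oc644))
  (Enum.ok_of_chk Oc645))
  (Enum.ok_of_chk Oc646))
  (Enum.ok_of_chk Oc647))
  (Enum.ok_of_chk Oc648))
  (Enum.ok_of_chk Oc649))
  (Enum.ok_of_chk Oc650))
  (Enum.ok_of_chk Oc651))
  (Enum.ok_of_chk Oc652))
  (Enum.ok_of_chk Oc653))
  (Enum.ok_of_chk Oc654))
  (Enum.ok_of_chk Oc655))
  (Enum.ok_of_chk Oc656))
  (Enum.ok_of_chk Oc657))
  (Enum.ok_of_chk Oc658))
  (Enum.ok_of_chk Oc659))
  (Enum.ok_of_chk Oc660))
  (Enum.ok_of_chk Oc661))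
  (Enum.ok_of_chk Oc662))
  (Enum.ok_of_chk Oc663))
  (Enum.ok_of_chk Oc664))
  (Enum.ok_of_chk Oc665))
  (Enum.ok_of_chk Oc666))
  (Enum.ok_of_chk Oc667))
  (Enum.ok_of_chk Oc668))
  (Enum.ok_of_chk Oc669))
  (Enum.ok_of_chk Oc670))
  (Enum.ok_of_chk Oc671))
  (Enum.ok_of_chk Oc672))
  (Enum.ok_of_chk Oc673))
  (Enum.ok_of_chk Oc674))
  (Enum.ok_of_chk Oc675))
  (Enum.ok_of_chk Oc676))
  (Enum.ok_of_chk Oc677))
  (Enum.ok_of_chk Oc678))
  (Enum.ok_of_chk Oc679))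
  (Enum.ok_of_chk Oc680))
  (Enum.ok_of_chk Oc681))
  (Enum.ok_of_chk Oc682))
  (Enum.ok_of_chk Oc683))
  (Enum.ok_of_chk Oc684))
  (Enum.ok_of_chk Oc685))
  (Enum.ok_of_chk Oc686))
  (Enum.ok_of_chk Oc687))
  (Enum.ok_of_chk Oc688))
  (Enum.ok_of_chk Oc689))
  (Enum.ok_of_chk Oc690))
  (Enum.ok_of_chk Oc691))
  (Enum.ok_of_chk Oc692))
  (Enum.ok_of_chk Oc693))
  (Enum.ok_of_chk Oc694))
  (Enum.ok_of_chk Oc695))
  (Enum.ok_of_chk Oc696))
  (Enum.ok_of_chk Oc697))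
  (Enum.ok_of_chk Oc698))
  (Enum.ok_of_chk Oc699))
  (Enum.ok_of_chk Oc700))
  (Enum.ok_of_chk Oc701))
  (Enum.ok_of_chk Oc702))
  (Enum.ok_of_chk Oc703))
  (Enum.ok_of_chk Oc704))
  (Enum.ok_of_chk Oc705))
  (Enum.ok_of_chk Oc706))
  (Enum.ok_of_chk Oc707))
  (Enum.ok_of_chk Oc708))
  (Enum.ok_of_chk Oc709))
  (Enum.ok_of_chk Oc710))
  (Enum.ok_of_chk Oc711))
  (Enum.ok_of_chk Oc712))
  (Enum.ok_of_chk Oc713))
  (Enum.ok_of_chk Oc714))
  (Enum.ok_of_chk Oc715))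
  (Enum.ok_of_chk Oc716))
  (Enum.ok_of_chk Oc717))
  (Enum.ok_of_chk Oc718))
  (Enum.ok_of_chk Oc719))
  (Enum.ok_of_chk Oc720))
  (Enum.ok_of_chk Oc721))
  (Enum.ok_of_chk Oc722))
  (Enum.ok_of_chk Oc723))
  (Enum.ok_of_chk Oc724))
  (Enum.ok_of_chk Oc725))
  (Enum.ok_of_chk Oc726))
  (Enum.ok_of_chk Oc727))
  (Enum.ok_of_chk Oc728))
  (Enum.ok_of_chk Oc729))
  (Enum.ok_of_chk Oc730))
  (Enum.ok_of_chk Oc731))
  (Enum.ok_of_chk Oc732))
  (Enum.ok_of_chk Oc733))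
  (Enum.ok_of_chk Oc734))
  (Enum.ok_of_chk Oc735))
  (Enum.ok_of_chk Oc736))
  (Enum.ok_of_chk Oc737))
  (Enum.ok_of_chk Oc738))
  (Enum.ok_of_chk Oc739))
  (Enum.ok_of_chk Oc740))
  (Enum.ok_of_chk Oc741))
  (Enum.ok_of_chk Oc742))
  (Enum.ok_of_chk Oc743))
  (Enum.ok_of_chk Oc744))
  (Enum.ok_of_chk Oc745))

theorem enumOK1 : en1.OK app (tst1 off 0 19 tst) 0 8379 0 49426484325817 :=
  (Enum.OK.append (Enum.OK.append (Enum.OK.append (Enum.OK.append (Enum.OK.append (Enum.ok_of_chk Oc746)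
  (Enum.ok_of_chk Oc747))
  (Enum.ok_of_chk Oc748))
  (Enum.ok_of_chk Oc749))
  (Enum.ok_of_chk Oc750))
  (Enum.ok_of_chk Oc751))

theorem cent_le : prodN cc ≤ Nat.card (Subgroup.centralizer {act.gen 17}) :=
  le_card_centralizer base chainC Oc752

theorem offOK : OffOK (okc 122760 24) (app 15) 19 off :=
  offOK_of_chk (rapp (offChk 24 (appB tabs t48 0xffffff) 15 19 off) (fun _ _ _ => offChk_append) 122760 (rapp (offChk 24 (appB tabs t48 0xffffff) 15 19 off) (fun _ _ _ => offChk_append) 120000 (rapp (offChk 24 (appB tabs t48 0xffffff) 15 19 off) (fun _ _ _ => offChk_append) 100000 (rapp (offChk 24 (appB tabs t48 0xffffff) 15 19 off) (fun _ _ _ => offChk_append) 80000 (rapp (offChk 24 (appB tabs t48 0xffffff) 15 19 off) (fun _ _ _ => offChk_append) 60000 (rapp (offChk 24 (appB tabs t48 0xffffff) 15 19 off) (fun _ _ _ => offChk_append) 40000 Oc753 Oc754 rfl rfl) Oc755 rfl rfl) Oc756 rfl rfl)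 Oc757 rfl rfl) Oc758 rfl rfl) Oc759 rfl rfl)

theorem classAll (g : PG) : ∃ k : ℕ, ∃ f, act.Rep ((act.gen 15 ^ k)⁻¹ * (g * act.gen 17 * g⁻¹) * act.gen 15 ^ k) f ∧ tst f = true :=
  Enum.OK.all2 (A := act) (E := en) (E' := en1) enumOK enumOK1 rfl hinv hinv (okc_of_okcb (n := 122760) (w := 24) (by decide +kernel)) (okc_of_okcb (n := 122760) (w := 24) (by decide +kernel))
    ⟨0, by decide, rfl⟩ ((beq_iff _ _).1 (show Nat.beq (app 15 0) 0 = true by decide +kernel)) (by decide) offOK cent_le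
    (card ▸ (ble_iff _ _).1 (by decide +kernel)) g

theorem autPair (φ : MulAut PG) : ∃ s ∈ [(15, 17), (15, 47)], ∃ g : PG, φ (act.gen 15) = g * act.gen s.1 * g⁻¹ ∧ φ (act.gen 17) = g * act.gen s.2 * g⁻¹ :=
  aut_pair2 base Oc760 (okc_of_okcb (n := 122760) (w := 24) (by decide +kernel)) (by decide +kernel) autA autT classAll φ

theorem sigma : ∃ σ : MulAut PG, σ (act.gen 15) = act.gen 15 ∧ σ (act.gen 17) = act.gen 47 :=
  tabOK.exists_aut_slp base bounds rels (by decide +kernel) card.ge (img := img)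
    (allL_cons Oc761 (allL_cons Oc762 (allL_cons Oc763 (allL_cons Oc764 (allL_cons Oc765 (allL_cons Oc766 (allL_cons Oc767 (allL_cons Oc768 (allL_cons Oc769 (allL_cons Oc770 (allL_cons Oc771 (allL_cons Oc772 (allL_cons Oc773 (allL_cons Oc774 (allL_cons Oc775 (allL_cons Oc776 (allL_cons Oc777 (allL_cons Oc778 (allL_cons Oc779 (allL_cons Oc780 (allL_cons Oc781 (allL_cons Oc782 (allL_cons Oc783 (allL_cons Oc784 (allL_cons Oc785 (allL_cons Oc786 (allL_cons Oc787 (allL_cons Oc788 (allL_cons Oc789 (allL_nil _))))))))))))))))))))))))))))))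
    (c := 28) (by decide) Oc790 (by decide) (by decide)
    clAT (va := [15]) (vt := [20,18,16,21,23,16,28,28,24,24,28,27,27,24,35,32,32,32]) (by decide +kernel) (by decide +kernel)

theorem card_out : Nat.card (Out PG) = 2 := by
  obtain ⟨σ, h1, h2⟩ := sigma
  exact card_out_eq_two clAT σ h1 h2 (tabOK.not_conj_fix' (v := [0,0,1]) (z := 27144) (by decide +kernel) (by decide +kernel)
    (rapp (moveAll 24 (appB tabs t48 0xffffff) (inst2 15 17 [0,0,1])) (fun _ _ _ => moveAll_append) 122760 (rapp (moveAll 24 (appB tabs t48 0xffffff) (inst2 15 17 [0,0,1])) (fun _ _ _ => moveAll_append) 120000 (rapp (moveAll 24 (appB tabs t48 0xffffff) (inst2 15 17 [0,0,1])) (fun _ _ _ => moveAll_append) 100000 (rapp (moveAll 24 (appB tabs t48 0xffffff) (inst2 15 17 [0,0,1])) (fun _ _ _ => moveAll_append) 80000 (rapp (moveAll 24 (appB tabs t48 0xffffff) (inst2 15 17 [0,0,1])) (fun _ _ _ => moveAll_append) 60000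 (rapp (moveAll 24 (appB tabs t48 0xffffff) (inst2 15 17 [0,0,1])) (fun _ _ _ => moveAll_append) 40000 Oc791 Oc792 rfl rfl) Oc793 rfl rfl) Oc794 rfl rfl) Oc795 rfl rfl) Oc796 rfl rfl) Oc797 rfl rfl)) autPair

end Cfsg.Agent.CG.ON
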